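import Mathlib
import Cfsg.Agent.H616.MajorTwoMain
import Cfsg.Agent.H644.MajorVal
import Cfsg.Agent.H619.TameSys_mg
import Cfsg.Agent.H650.LinAct
import Cfsg.Agent.H658.MajorVal
set_option linter.all false

-- part: H602/Small/Height
section
/-!
# Major subsections of rank one: the heights

`sum_pow_height_le`: if `(u, b)` is a major subsection of the block `B` of defect `d` with `l(b) = 1`
then the sum of `p ^ (2 h(χ))` over the members `χ` of `B` is at most `p ^ d`.
`card_zero_add_le`: for `p = 2`, `k₀ + 4 (k - k₀) ≤ 2 ^ d`.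
-/

set_option autoImplicit false
set_option linter.unusedSectionVars false

open Cfsg Matrix
open scoped ComplexConjugate

namespace Cfsg.Agent.H602.Small

open Cfsg.Agent.Blocks.Blau Cfsg.Agent.Blocks.Local Cfsg.Agent.Characters
open Cfsg.Agent.H613 Cfsg.Agent.H613.RegGram Cfsg.Agent.H613.Contrib
  Cfsg.Agent.H613.ContribVal Cfsg.Agent.H616

variable {G : Type*} [Group G] [Finite G] {p : ℕ} [Fact p.Prime] {M : Ideal AlgInt}

/-- Averages over the units, with different lower bounds. -/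
theorem sum_le_of_avg {β : Type*} [Fintype β] {ι : Type*} [Fintype ι] [Nonempty ι]
    (f : β → ι → ℝ) (r : β → ℝ) {t : ℝ}
    (h1 : ∀ x, r x * Fintype.card ι ≤ ∑ i, f x i) (h2 : ∀ i, ∑ x, f x i = t) :
    ∑ x, r x ≤ t := by
  have h3 : (0 : ℝ) < Fintype.card ι := by exact_mod_cast Fintype.card_pos
  have h4 : ∑ x, ∑ i, f x i = t * Fintype.card ι := by
    rw [Finset.sum_comm, Finset.sum_congr rfl fun i _ => h2 i, Finset.sum_const, Finset.card_univ,
      nsmul_eq_mul, mul_comm]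
  have h6 := Finset.sum_le_sum fun x (_ : x ∈ Finset.univ) => h1 x
  rw [h4, ← Finset.sum_mul] at h6
  exact le_of_mul_le_mul_right h6 h3

theorem sum_pow_height_le (hM : IsPModular p M) {u : G} (hu : ∃ k : ℕ, orderOf u = p ^ k)
    {H : Subgroup G} (hH : H = Subgroup.centralizer ({u} : Set G)) {b : Set (IrrCharacter H)}
    {B : Set (IrrCharacter G)} (hind : IsInducedBlock M H b B)
    (hd : blockDefect p b = blockDefect p B) (hl : blockRank p b = 1) [Fintype B] :
    ∑ χ : B, (p ^ blockHeight p B ((χ : IrrCharacter G) : G → ℂ)) ^ 2 ≤ p ^ blockDefect p B := by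
  classical
  have := isPrime_of_isPModular hM
  have := Fintype.ofFinite G
  have := Fintype.ofFinite H
  have := Core.finite_irr (G := H)
  have := Fintype.ofFinite (IrrCharacter H)
  have := Core.finite_irr (G := G)
  have := Fintype.ofFinite (IrrCharacter G)
  have : Fintype b := Fintype.ofFinite b
  obtain ⟨P, D, E, A, hP, hF⟩ := exists_factor_block hM (b := b) hind.1
  obtain ⟨j', hj'⟩ := hu
  have huq : u ^ p ^ j' = 1 := by rw [← hj']; exact pow_orderOf_eq_one u
  obtain ⟨n', e', hE'⟩ := exists_exp hH huq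
  have hq' : p ^ j' ≠ 0 := pow_ne_zero _ hM.1.ne_zero
  have : NeZero (p ^ j') := ⟨hq'⟩
  generalize hl' : blockRank p b = l at D E A hF hl
  subst hl
  have hS : SubData p M u H (p ^ j') n' e' b P B D E A :=
    ⟨hM, ⟨j', hj'⟩, hH, huq, hE', hind, hP, by convert hF⟩
  -- the matrix `A`
  have h2 := congrFun (congrFun hS.fac.mul 0) 0
  rw [Matrix.mul_apply, Fin.sum_univ_one, Matrix.mul_apply, Matrix.smul_apply,
    Matrix.one_apply_eq, smul_eq_mul, mul_one] at h2
  simp only [Matrix.transpose_apply, ← sq] at h2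
  have hppos : (0 : ℤ) < (p : ℤ) ^ blockDefect p b := by
    have : (0 : ℤ) < p := by exact_mod_cast hM.1.pos
    positivity
  have h4 : (0 : ℤ) ≤ ∑ η, D η 0 ^ 2 := by positivity
  have hA : A 0 0 = 1 := by
    have hnd : ¬ (p : ℤ) ∣ A 0 0 := by
      obtain ⟨i, j, hij⟩ := exists_not_dvd hM hind.1 hP hS.fac
      have e1 : i = 0 := Subsingleton.elim _ _
      have e2 : j = 0 := Subsingleton.elim _ _
      rwa [e1, e2] at hij
    have hpos : 0 < A 0 0 := by
      by_contra hneg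
      push Not at hneg
      nlinarith
    have hdvd : A 0 0 ∣ (p : ℤ) ^ blockDefect p b := ⟨_, h2.symm⟩
    have hpp : Prime (p : ℤ) := Nat.prime_iff_prime_int.1 hM.1
    obtain ⟨i, -, hi⟩ := (dvd_prime_pow hpp _).1 hdvd
    rcases Nat.eq_zero_or_pos i with rfl | hi0
    · rw [pow_zero] at hi
      rcases Int.associated_iff.1 hi with h | h
      · exact h
      · omega
    · exfalso
      apply hnd
      exact (dvd_pow_self _ hi0.ne').trans hi.symm.dvd
  have h5 : ∑ η, D η 0 ^ 2 = (p : ℤ) ^ blockDefect p b := by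
    rw [← h2, hA, one_mul]
  -- the columns
  set X : B → ℕ → ℂ := fun ψ => gd n' e' (fun ξ => D ξ 0) ψ with hX
  have hgal : ∀ ψ, GalFam (p ^ j') (X ψ) := fun ψ => gd_galFam hS.exp hq' _ _
  have hp0 : (p : ℂ) ≠ 0 := by exact_mod_cast hM.1.ne_zero
  obtain ⟨ψ₀, hψ₀, hψ₀0⟩ := exists_blockHeight_eq_zero p (isPBlock_nonempty hM hind.2.1)
  have key : ∀ (ψ : B) (k : ℕ), k.Coprime (p ^ j') → ∃ z : ℂ, MemLocalRing M z ∧
      ¬ MemLocalIdeal M z ∧ X ψ k * conj (X ⟨ψ₀, hψ₀⟩ k) =
        (p : ℂ) ^ blockHeight p B ((ψ : IrrCharacter G) : G → ℂ) * z := by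
    intro ψ k hk
    obtain ⟨z, hz1, hz2, hz⟩ := Cfsg.Agent.H644.MajorVal.exists_unit_of_major hM hE' huq hind hd ψ.2 hψ₀ hψ₀0
      (k := k) (centralizer_val hH huq hk)
    refine ⟨z, hz1, hz2, ?_⟩
    rw [← hz, hS.contr hk]
    rw [Fin.sum_univ_one, Fin.sum_univ_one, hA, Int.cast_one, mul_one]
  have hunit : ∀ (k : ℕ), k.Coprime (p ^ j') →
      MemLocalRing M (conj (X ⟨ψ₀, hψ₀⟩ k))⁻¹ ∧ conj (X ⟨ψ₀, hψ₀⟩ k) ≠ 0 := by
    intro k hk
    obtain ⟨z, hz1, hz2, hz⟩ := key ⟨ψ₀, hψ₀⟩ k hk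
    rw [hψ₀0, pow_zero, one_mul] at hz
    have hi1 : MemLocalRing M (X ⟨ψ₀, hψ₀⟩ k) :=
      memLocalRing_of_isIntegral ((hgal _).integral k)
    have hi2 : MemLocalRing M (conj (X ⟨ψ₀, hψ₀⟩ k)) :=
      memLocalRing_of_isIntegral (isIntegral_conj ((hgal _).integral k))
    have hni : ¬ MemLocalIdeal M (conj (X ⟨ψ₀, hψ₀⟩ k)) := by
      intro h
      apply hz2
      rw [← hz]
      exact memLocalIdeal_mul_left hi1 h
    refine ⟨memLocalRing_inv hi2 hni, fun h => hni ?_⟩
    rw [h]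
    exact memLocalIdeal_zero
  have hval : ∀ (ψ : B) (k : ℕ), k.Coprime (p ^ j') → X ψ k ≠ 0 ∧
      MemLocalRing M (X ψ k / (p : ℂ) ^ blockHeight p B ((ψ : IrrCharacter G) : G → ℂ)) := by
    intro ψ k hk
    obtain ⟨z, hz1, hz2, hz⟩ := key ψ k hk
    obtain ⟨hc1, hc2⟩ := hunit k hk
    have hz0 : z ≠ 0 := by
      rintro rfl
      exact hz2 memLocalIdeal_zero
    have hpow : (p : ℂ) ^ blockHeight p B ((ψ : IrrCharacter G) : G → ℂ) ≠ 0 :=
      pow_ne_zero _ hp0
    constructor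
    · intro h
      rw [h, zero_mul] at hz
      exact mul_ne_zero hpow hz0 hz.symm
    · have h7 : X ψ k / (p : ℂ) ^ blockHeight p B ((ψ : IrrCharacter G) : G → ℂ) =
          z * (conj (X ⟨ψ₀, hψ₀⟩ k))⁻¹ := by
        rw [div_eq_iff hpow, mul_assoc, mul_comm _ ((p : ℂ) ^ _), ← mul_assoc, mul_comm z, ← hz,
          mul_assoc, mul_inv_cancel₀ hc2, mul_one]
      rw [h7]
      exact memLocalRing_mul hz1 hc1
  have hsum : ∀ v : (ZMod (p ^ j'))ˣ, ∑ ψ : B, ‖X ψ (v : ZMod (p ^ j')).val‖ ^ 2 =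
      (p : ℝ) ^ blockDefect p b := by
    intro v
    have h8 := hS.norm_sq (ZMod.val_coe_unit_coprime v) 0
    rw [h5] at h8
    rw [h8]
    push_cast
    rfl
  have hfin := sum_le_of_avg (ι := (ZMod (p ^ j'))ˣ)
    (fun (ψ : B) v => ‖X ψ (v : ZMod (p ^ j')).val‖ ^ 2)
    (fun ψ => ((p : ℝ) ^ blockHeight p B ((ψ : IrrCharacter G) : G → ℂ)) ^ 2)
    (t := (p : ℝ) ^ blockDefect p b)
    (fun ψ => (hgal ψ).card_le_sum (hval ψ 1 (Nat.coprime_one_left _)).1 hM
      (t := blockHeight p B ((ψ : IrrCharacter G) : G → ℂ))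
      (fun v => (hval ψ _ (ZMod.val_coe_unit_coprime v)).2)) hsum
  rw [← hd]
  exact_mod_cast hfin

/-- For `p = 2`. -/
theorem card_zero_add_le {M : Ideal AlgInt} (hM : IsPModular 2 M) {u : G}
    (hu : ∃ k : ℕ, orderOf u = 2 ^ k)
    {H : Subgroup G} (hH : H = Subgroup.centralizer ({u} : Set G)) {b : Set (IrrCharacter H)}
    {B : Set (IrrCharacter G)} (hind : IsInducedBlock M H b B)
    (hd : blockDefect 2 b = blockDefect 2 B) (hl : blockRank 2 b = 1) :
    4 * Nat.card B ≤ 3 * Nat.card {χ : IrrCharacter G // χ ∈ B ∧ blockHeight 2 B (χ : G → ℂ) = 0}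
      + 2 ^ blockDefect 2 B := by
  classical
  have : Fact (Nat.Prime 2) := ⟨Nat.prime_two⟩
  have := Core.finite_irr (G := G)
  have : Fintype B := Fintype.ofFinite B
  have h1 := sum_pow_height_le hM hu hH hind hd hl
  have hcard0 : Nat.card {χ : IrrCharacter G // χ ∈ B ∧ blockHeight 2 B (χ : G → ℂ) = 0} =
      ∑ ψ : B, if blockHeight 2 B ((ψ : IrrCharacter G) : G → ℂ) = 0 then 1 else 0 := by
    rw [Finset.sum_ite, Finset.sum_const_zero, add_zero, Finset.sum_const, smul_eq_mul, mul_one,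
      ← Fintype.card_subtype, ← Nat.card_eq_fintype_card]
    refine Nat.card_congr ⟨fun x => ⟨⟨x.1, x.2.1⟩, x.2.2⟩, fun x => ⟨x.1.1, x.1.2, x.2⟩,
      fun x => rfl, fun x => rfl⟩
  have hcard : Nat.card B = ∑ _ψ : B, 1 := by
    rw [Finset.sum_const, Finset.card_univ, Nat.card_eq_fintype_card, smul_eq_mul, mul_one]
  refine le_trans ?_ (Nat.add_le_add_left h1 _)
  rw [hcard0, hcard, Finset.mul_sum, Finset.mul_sum, ← Finset.sum_add_distrib]
  refine Finset.sum_le_sum fun ψ _ => ?_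
  split_ifs with h
  · rw [h]; norm_num
  · have h3 : 2 ≤ 2 ^ blockHeight 2 B ((ψ : IrrCharacter G) : G → ℂ) := by
      calc 2 = 2 ^ 1 := rfl
        _ ≤ _ := Nat.pow_le_pow_right (by norm_num) (by omega)
    nlinarith

end Cfsg.Agent.H602.Small
end

-- part: H602/Small/Trace
section
/-!
# Linear characters acting on a block, and the ranks of the subsections

`a` a maximal Brauer pair of the block `B`, `r` representatives of the nontrivial fusion classes.
* `blockDefect_bel_of_central`: for `c` central in `a.1` the subsection `(c, b_c)` is major;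
* `star_trace`: the trace of `χ ↦ star η χ` is `η(1) l(B) + ∑ᵢ η(rᵢ) l(b_{rᵢ})`;
* `sum_rank_eq_zero`: this is zero for a stable linear character `η` with `η(c) ≠ 1`, `c` central;
* `sum_rank_eq_zero_int`: the same for a stable character with values `±1`, over the integers;
* `card_zero_add_le_bel`: `4 k(B) ≤ 3 k₀(B) + |a.1|` if `l(b_c) = 1` for some central `c`.
-/

set_option autoImplicit false
set_option linter.unusedSectionVars false

open Cfsg
open scoped ComplexConjugate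

namespace Cfsg.Agent.H602.Small

open Cfsg.Agent.Blocks.Blau Cfsg.Agent.Blocks.Local Cfsg.Agent.Characters
open Cfsg.Agent.H613.RegGram Cfsg.Agent.H613.Contrib Cfsg.Agent.H613.SubSys
open Cfsg.Agent.H613.SubFus Cfsg.Agent.H651 Cfsg.Agent.H619.Tame Cfsg.Agent.H650
open Cfsg.Agent.H639 Cfsg.Agent.H649

universe u

variable {G : Type u} [Group G] [Finite G] {p : ℕ} [Fact p.Prime] {M : Ideal AlgInt}
  {B : Set (IrrCharacter G)} {a : BrauerPairIdx G}

theorem pow_blockDefect_eq (hM : IsPModular p M) (hmax : IsMaximalBrauerPair p M B a.1 a.2) :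
    p ^ blockDefect p B = Nat.card a.1 := by
  have := isPrime_of_isPModular hM
  exact (S0908.result p M hM B hmax.1.2.1 a.1
    (Cfsg.Agent.H644.isDefectGroup_of_isMaximalBrauerPair hM hmax)).symm

/-- The subsections at the central elements are major. -/
theorem blockDefect_bel_of_central (hM : IsPModular p M)
    (hmax : IsMaximalBrauerPair p M B a.1 a.2) {c : G} (hc : c ∈ a.1)
    (hcc : ∀ d ∈ a.1, d * c = c * d) :
    blockDefect p (bel p M a c).2 = blockDefect p B := by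
  have h0 := pow_blockDefect_eq hM hmax
  have h1 := Cfsg.Agent.H613.SubDef.card_le_defect hM hmax hc
  have h3 : a.1 ⊓ Subgroup.centralizer ((Subgroup.zpowers c : Subgroup G) : Set G) = a.1 := by
    refine inf_eq_left.2 fun y hy => ?_
    rw [centralizer_zpowers, Subgroup.mem_centralizer_singleton_iff]
    exact hcc y hy
  rw [h3, ← h0] at h1
  obtain ⟨v, hv, hf, h2⟩ := Cfsg.Agent.H613.SubDef.exists_fus_defect hM hmax hc
  have h4 : Nat.card (a.1 ⊓ Subgroup.centralizer
      ((Subgroup.zpowers v : Subgroup G) : Set G) : Subgroup G) ≤ Nat.card a.1 :=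
    Nat.card_le_card_of_injective _ (Subgroup.inclusion_injective inf_le_left)
  rw [← h2, ← h0] at h4
  exact Nat.pow_right_injective hM.1.two_le (le_antisymm h4 h1)

theorem isStable_of_fus' (hM : IsPModular p M) (ha : IsBrauerPair p M a.1 a.2) {η : G → ℂ}
    (h : ∀ u v, u ∈ a.1 → v ∈ a.1 → Fus p M a u v → η v = η u) : IsStable p M a η := by
  intro u g b hu hb1 hb hgb
  have h1 : b = bel p M a u := eq_bel hM ha hb1 hb
  rw [h1] at hgb
  refine h u (g * u * g⁻¹) hu ?_ (Fus.of_le hM ha hgb)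
  have h2 := hgb.le
  apply h2
  rw [conjIdx_fst, bel_fst, MonoidHom.map_zpowers]
  exact Subgroup.mem_zpowers _

section sys

variable {ι : Type*} [Fintype ι] {r : ι → G}

/-- The trace of the star construction. -/
theorem star_trace [Fintype G] [Fintype B] (hM : IsPModular p M)
    (hmax : IsMaximalBrauerPair p M B a.1 a.2)
    (hr : ∀ i, r i ∈ a.1) (h : IsSys p M B r fun i => bel p M a (r i)) {η : G → ℂ}
    (hη : IsStable p M a η) :
    ∑ χ : B, classInner (H651.star p M a η ((χ : IrrCharacter G) : G → ℂ))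
      ((χ : IrrCharacter G) : G → ℂ) =
      η 1 * blockRank p B + ∑ i, η (r i) * blockRank p (bel p M a (r i)).2 := by
  rw [Finset.sum_congr rfl fun χ _ => classInner_star_sys hM hmax hr h hη χ.2 χ.2,
    Finset.sum_add_distrib, ← Finset.mul_sum, sum_rg_self hM hmax.1.2.1, Finset.sum_comm]
  congr 1
  refine Finset.sum_congr rfl fun i _ => ?_
  rw [← Finset.mul_sum]
  congr 1
  exact (h.sub i).sum_Cn_self hM

/-- A stable linear character which is nontrivial on the centre fixes no member of the block. -/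
theorem star_ne (hM : IsPModular p M) (hmax : IsMaximalBrauerPair p M B a.1 a.2)
    {η : G → ℂ} (hη : IsStable p M a η) {c : G} (hc : c ∈ a.1)
    (hcc : ∀ d ∈ a.1, d * c = c * d) (h1 : η c ≠ 1) {χ : IrrCharacter G} (hχ : χ ∈ B) :
    H651.star p M a η (χ : G → ℂ) ≠ (χ : G → ℂ) := by
  intro heq
  have := Fintype.ofFinite G
  have hsub := isSubsec_bel hM hmax hc
  have h2 := Cn_star (b := bel p M a c) hM hη (Core.isIrr_isClassFunction χ.2) hsub.pelt rfl
    (isPBlock_bel hM hmax.1.1 hc) (χ : G → ℂ)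
  rw [heq, etaW_bel hM hmax.1.1 hη hc] at h2
  have : Fintype (Subgroup.centralizer ((bel p M a c).1 : Set G)) := Fintype.ofFinite _
  have : Finite (IrrCharacter (Subgroup.centralizer ((bel p M a c).1 : Set G))) :=
    Core.finite_irr
  have := Fintype.ofFinite (bel p M a c).2
  have h3 : Cn p c (bel p M a c) (χ : G → ℂ) (χ : G → ℂ) ≠ 0 := by
    rw [Cn_eq]
    exact Cfsg.Agent.H658.contr_self_ne_zero hM hsub.pelt hsub.centralizer_eq hsub.ind
      (blockDefect_bel_of_central hM hmax hc hcc) hχ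
  apply h1
  exact (mul_right_cancel₀ h3 ((one_mul _).trans h2)).symm

/-- **The trace formula** for a stable linear character which is nontrivial at a central
element. -/
theorem sum_rank_eq_zero (hM : IsPModular p M)
    (hmax : IsMaximalBrauerPair p M B a.1 a.2)
    (hr : ∀ i, r i ∈ a.1) (h : IsSys p M B r fun i => bel p M a (r i)) (l : a.1 →* ℂˣ)
    (hl : ∀ (u v : G) (hu : u ∈ a.1) (hv : v ∈ a.1), Fus p M a u v → l ⟨v, hv⟩ = l ⟨u, hu⟩)
    {c : G} (hc : c ∈ a.1) (hcc : ∀ d ∈ a.1, d * c = c * d) (h1 : l ⟨c, hc⟩ ≠ 1) :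
    (blockRank p B : ℂ) + ∑ i, ((l ⟨r i, hr i⟩ : ℂˣ) : ℂ) *
      blockRank p (bel p M a (r i)).2 = 0 := by
  classical
  have := Fintype.ofFinite G
  have := Core.finite_irr (G := G)
  have : Fintype B := Fintype.ofFinite B
  have hst : IsStable p M a (ext0 a.1 l) := by
    refine isStable_of_fus' hM hmax.1.1 fun u v hu hv hf => ?_
    rw [ext0_of_mem _ hu, ext0_of_mem _ hv, hl u v hu hv hf]
  have h2 := star_trace hM hmax hr h hst
  rw [ext0_apply_one, one_mul] at h2
  have h3 : ∑ i, ext0 a.1 l (r i) * (blockRank p (bel p M a (r i)).2 : ℂ) =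
      ∑ i, ((l ⟨r i, hr i⟩ : ℂˣ) : ℂ) * blockRank p (bel p M a (r i)).2 :=
    Finset.sum_congr rfl fun i _ => by rw [ext0_of_mem _ (hr i)]
  rw [← h3, ← h2]
  refine Finset.sum_eq_zero fun χ _ => ?_
  have hgen := star_isGeneralizedCharacter hM hmax (isGeneralizedCharacter_ext0 l) hst
    (Core.isIrr_isCharacter (χ : IrrCharacter G).2)
  have hirr := star_isIrr hM hmax hst (fun _ hg => ext0_mul_conj l hg) (ext0_apply_one l)
    χ.2 hgen
  have hne := star_ne hM hmax hst hc hcc (by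
    rw [ext0_of_mem _ hc]
    intro h4
    exact h1 (Units.ext h4)) χ.2
  exact Core.classInner_irr_ne hirr (χ : IrrCharacter G).2 hne

/-- The trace formula for a stable character with values `±1`. -/
theorem sum_rank_eq_zero_int (hM : IsPModular p M)
    (hmax : IsMaximalBrauerPair p M B a.1 a.2)
    (hr : ∀ i, r i ∈ a.1) (h : IsSys p M B r fun i => bel p M a (r i)) (ε : G → ℤ)
    (hε : ∀ x ∈ a.1, ε x = 1 ∨ ε x = -1)
    (hmul : ∀ x ∈ a.1, ∀ y ∈ a.1, ε (x * y) = ε x * ε y)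
    (hfus : ∀ u v : G, u ∈ a.1 → v ∈ a.1 → Fus p M a u v → ε v = ε u)
    {c : G} (hc : c ∈ a.1) (hcc : ∀ d ∈ a.1, d * c = c * d) (h1 : ε c = -1) :
    (blockRank p B : ℤ) + ∑ i, ε (r i) * blockRank p (bel p M a (r i)).2 = 0 := by
  have hone : ε 1 = 1 := by
    have h2 := hmul 1 a.1.one_mem 1 a.1.one_mem
    rw [mul_one] at h2
    rcases hε 1 a.1.one_mem with h3 | h3
    · exact h3
    · rw [h3] at h2; norm_num at h2
  have hsq : ∀ x ∈ a.1, ((ε x : ℤ) : ℂ) * ((ε x : ℤ) : ℂ) = 1 := by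
    intro x hx
    rcases hε x hx with h3 | h3 <;> rw [h3] <;> norm_num
  let l : a.1 →* ℂˣ :=
    { toFun := fun x => ⟨(ε x : ℂ), (ε x : ℂ), hsq x x.2, hsq x x.2⟩
      map_one' := by
        apply Units.ext
        change ((ε ((1 : a.1) : G) : ℤ) : ℂ) = 1
        rw [OneMemClass.coe_one, hone, Int.cast_one]
      map_mul' := fun x y => by
        apply Units.ext
        change ((ε ((x * y : a.1) : G) : ℤ) : ℂ) = ((ε x : ℤ) : ℂ) * ((ε y : ℤ) : ℂ)
        rw [Subgroup.coe_mul, hmul x x.2 y y.2, Int.cast_mul] }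
  have hlv : ∀ x : a.1, ((l x : ℂˣ) : ℂ) = ((ε x : ℤ) : ℂ) := fun x => rfl
  have h2 := sum_rank_eq_zero hM hmax hr h l (fun u v hu hv hf => by
    apply Units.ext
    rw [hlv, hlv]
    exact congrArg (fun t : ℤ => (t : ℂ)) (hfus u v hu hv hf)) hc hcc (fun h3 => by
    have h4 := congrArg (fun t : ℂˣ => (t : ℂ)) h3
    change ((ε c : ℤ) : ℂ) = 1 at h4
    rw [h1] at h4
    norm_num at h4)
  have h3 : (((blockRank p B : ℤ) + ∑ i, ε (r i) * blockRank p (bel p M a (r i)).2 : ℤ) : ℂ) =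
      0 := by
    rw [← h2]
    push_cast
    rfl
  exact_mod_cast h3

end sys

/-- The bound for `p = 2` at a central element. -/
theorem card_zero_add_le_bel {M : Ideal AlgInt} {B : Set (IrrCharacter G)} {a : BrauerPairIdx G}
    (hM : IsPModular 2 M) (hmax : IsMaximalBrauerPair 2 M B a.1 a.2) {c : G} (hc : c ∈ a.1)
    (hcc : ∀ d ∈ a.1, d * c = c * d) (hl : blockRank 2 (bel 2 M a c).2 = 1) :
    4 * Nat.card B ≤ 3 * Nat.card {χ : IrrCharacter G // χ ∈ B ∧ blockHeight 2 B (χ : G → ℂ) = 0}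
      + Nat.card a.1 := by
  have : Fact (Nat.Prime 2) := ⟨Nat.prime_two⟩
  have hsub := isSubsec_bel hM hmax hc
  rw [← pow_blockDefect_eq hM hmax]
  exact card_zero_add_le hM hsub.pelt hsub.centralizer_eq hsub.ind
    (blockDefect_bel_of_central hM hmax hc hcc) hl

end Cfsg.Agent.H602.Small
end
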