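import Mathlib
import Cfsg.Agent.H624.FCases_mg
import Cfsg.Agent.H642.TameCenter
import Cfsg.Agent.S4687
import Cfsg.Agent.S4689
import Cfsg.Agent.H617.FusMain
import Cfsg.Agent.H617.OlssonMain
import Cfsg.Agent.H584.MaxClass
import Cfsg.Agent.S4528
import Cfsg.Agent.S4529
import Cfsg.Agent.S4530
set_option linter.all false

-- part: H602/Small/Eight
section
/-!
# Automorphisms of small 2-groups, blocks with defect group `C₄ × C₂`

* `aut_eq_one_of_eight`: automorphisms of odd order of an abelian group of order 8 which is not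
  elementary abelian are trivial;
* `aut_eq_one_of_sixteen`: the same for a group of order 16 with a central involution `z` such that
  the quotient is abelian and not elementary abelian;
* `rank_one_of_aut`: `l(B) = 1` for an abelian defect group with `Aut(D)` a 2-group;
* `rank_one_of_abelian_eight`.
-/

set_option autoImplicit false
set_option linter.unusedSectionVars false

open Cfsg

namespace Cfsg.Agent.H602.Small

universe u

theorem isPGroup_two_of_odd {A : Type*} [Group A] [Finite A]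
    (h : ∀ a : A, Odd (orderOf a) → a = 1) : IsPGroup 2 A := by
  intro a
  obtain ⟨k, m, hm, hk⟩ := Nat.exists_eq_two_pow_mul_odd (orderOf_pos a).ne'
  refine ⟨k, h _ ?_⟩
  rw [orderOf_pow, hk, Nat.gcd_mul_right_left, Nat.mul_div_cancel_left _ (by positivity)]
  exact hm

section Aut

variable {D : Type*} [Group D]

theorem eq_of_odd_pow {α : MulAut D} {n : ℕ} (hα : α ^ n = 1) (hn : Odd n) {x w : D}
    (hx : α x = x * w) (hw : α w = w) (hw2 : w * w = 1) : α x = x := by
  have key : ∀ k : ℕ, (α ^ k) x = x * w ^ k := by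
    intro k
    induction k with
    | zero => simp
    | succ k ih => rw [pow_succ', MulAut.mul_apply, ih, map_mul, map_pow, hx, hw, pow_succ',
        mul_assoc]
  have h1 := key n
  rw [hα, MulAut.one_apply] at h1
  have h2 : w ^ n = 1 := by
    have h3 : x * 1 = x * w ^ n := by rw [mul_one]; exact h1
    exact (mul_left_cancel h3).symm
  obtain ⟨m, rfl⟩ := hn
  rw [pow_succ, pow_mul, pow_two, hw2, one_pow, one_mul] at h2
  rw [hx, h2, mul_one]

theorem aut_eq_one_of_fix (hp : IsPGroup 2 D) (hab : ∀ x y : D, x * y = y * x) {α : MulAut D}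
    {n : ℕ} (hα : α ^ n = 1) (hn : Odd n) (hfix : ∀ x : D, x * x = 1 → α x = x) : α = 1 := by
  have key : ∀ k : ℕ, ∀ x : D, x ^ 2 ^ k = 1 → α x = x := by
    intro k
    induction k with
    | zero =>
      intro x hx
      rw [pow_zero, pow_one] at hx
      rw [hx, map_one]
    | succ k ih =>
      intro x hx
      have h1 : α (x * x) = x * x := ih _ (by
        rw [← pow_two, ← pow_mul, mul_comm, ← pow_succ]; exact hx)
      have hw2 : (x⁻¹ * α x) * (x⁻¹ * α x) = 1 := by
        calc x⁻¹ * α x * (x⁻¹ * α x) = x⁻¹ * (α x * x⁻¹) * α x := by group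
          _ = x⁻¹ * (x⁻¹ * α x) * α x := by rw [hab (α x) x⁻¹]
          _ = (x * x)⁻¹ * (α x * α x) := by group
          _ = 1 := by rw [← map_mul, h1, inv_mul_cancel]
      exact eq_of_odd_pow hα hn (w := x⁻¹ * α x) (by group) (hfix _ hw2) hw2
  apply MulEquiv.ext
  intro x
  obtain ⟨k, hk⟩ := hp x
  exact key k x hk

/-- Automorphisms of odd order of an abelian group of order 8, not elementary abelian. -/
theorem aut_eq_one_of_eight (h8 : Nat.card D = 8) (hab : ∀ x y : D, x * y = y * x) {x : D}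
    (hx : x * x ≠ 1) {α : MulAut D} {n : ℕ} (hα : α ^ n = 1) (hn : Odd n) : α = 1 := by
  have hfin : Finite D := Nat.finite_of_card_ne_zero (by rw [h8]; norm_num)
  have hp : IsPGroup 2 D := IsPGroup.of_card (n := 3) (by rw [h8]; norm_num)
  refine aut_eq_one_of_fix hp hab hα hn ?_
  let sq : D →* D :=
    { toFun := fun y => y * y
      map_one' := mul_one 1
      map_mul' := fun a b => by
        rw [mul_assoc, mul_assoc a a, ← mul_assoc b a b, hab b a, mul_assoc a b b] }
  have hsq : ∀ y, sq y = y * y := fun _ => rfl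
  have hmk : ∀ y, y ∈ sq.ker ↔ y * y = 1 := fun y => MonoidHom.mem_ker
  have hcard : Nat.card sq.ker * Nat.card sq.range = 8 := by
    rw [← h8, ← Subgroup.card_mul_index sq.ker, Subgroup.index_ker]
  have hxr : x * x ∈ sq.range := ⟨x, rfl⟩
  have hK1 : Nat.card sq.ker ≠ 1 := by
    intro h
    have : Fact (Nat.Prime 2) := ⟨Nat.prime_two⟩
    obtain ⟨y, hy⟩ := exists_prime_orderOf_dvd_card' (G := D) 2 (by rw [h8]; norm_num)
    have h1 : y ∈ sq.ker := (hmk y).2 (by rw [← pow_two, ← hy, pow_orderOf_eq_one])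
    rw [Subgroup.card_eq_one.1 h, Subgroup.mem_bot] at h1
    rw [h1, orderOf_one] at hy
    norm_num at hy
  have hR1 : Nat.card sq.range ≠ 1 := by
    intro h
    rw [Subgroup.card_eq_one.1 h, Subgroup.mem_bot] at hxr
    exact hx hxr
  have hmap : ∀ y, y * y = 1 → α y * α y = 1 := fun y hy => by rw [← map_mul, hy, map_one]
  have hK : Nat.card sq.ker = 2 ∨ (Nat.card sq.ker = 4 ∧ Nat.card sq.range = 2) := by
    have h1 : Nat.card sq.ker ∣ 8 := ⟨_, hcard.symm⟩
    have h2 : Nat.card sq.ker ≤ 8 := Nat.le_of_dvd (by norm_num) h1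
    generalize Nat.card sq.ker = k at *
    generalize Nat.card sq.range = r at *
    interval_cases k <;> omega
  intro e he
  by_cases he1 : e = 1
  · rw [he1, map_one]
  rcases hK with hK | ⟨hK, hR⟩
  · obtain ⟨t, ht, huniq⟩ := (Nat.card_eq_two_iff' (1 : sq.ker)).1 hK
    have h1 := huniq ⟨e, (hmk e).2 he⟩ (fun h => he1 (congrArg Subtype.val h))
    have h2 := huniq ⟨α e, (hmk _).2 (hmap e he)⟩ (fun h => he1 (by
      have h3 : α e = 1 := congrArg Subtype.val h
      exact (map_eq_one_iff _ α.injective).1 h3))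
    exact congrArg Subtype.val (h2.trans h1.symm)
  · obtain ⟨v, hv⟩ : ∃ v, v = x * x := ⟨_, rfl⟩
    rw [← hv] at hx hxr
    have hRv : ∀ y, y ∈ sq.range → y = 1 ∨ y = v := by
      intro y hy
      obtain ⟨t, ht, huniq⟩ := (Nat.card_eq_two_iff' (1 : sq.range)).1 hR
      by_cases hy1 : y = 1
      · exact Or.inl hy1
      · right
        have h1 := huniq ⟨y, hy⟩ (fun h => hy1 (congrArg Subtype.val h))
        have h2 := huniq ⟨v, hxr⟩ (fun h => hx (congrArg Subtype.val h))
        exact congrArg Subtype.val (h1.trans h2.symm)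
    have hvv : v * v = 1 := by
      rcases hRv (v * v) ⟨v, rfl⟩ with h | h
      · exact h
      · exact absurd (mul_eq_left.1 h) hx
    have hαv : α v = v := by
      rcases hRv (α v) ⟨α x, by rw [hsq, ← map_mul, ← hv]⟩ with h | h
      · exact absurd ((map_eq_one_iff _ α.injective).1 h) hx
      · exact h
    by_cases hev : e = v
    · rw [hev]; exact hαv
    have hmem : ∀ y, y * y = 1 → y ∈ ({1, v, e, e * v} : Set D) := by
      have h1 : ({1, v, e, e * v} : Set D) ⊆ (sq.ker : Set D) := by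
        rintro y (rfl | rfl | rfl | rfl)
        · exact one_mem _
        · exact (hmk _).2 hvv
        · exact (hmk _).2 he
        · exact (sq.ker).mul_mem ((hmk _).2 he) ((hmk _).2 hvv)
      have h2 : Set.ncard ({1, v, e, e * v} : Set D) = 4 := by
        rw [Set.ncard_insert_of_notMem, Set.ncard_insert_of_notMem, Set.ncard_pair]
        · exact fun h => hx (left_eq_mul.1 h)
        · rintro (h | h)
          · exact hev h.symm
          · exact he1 (right_eq_mul.1 h)
        · rintro (h | h | h)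
          · exact hx h.symm
          · exact he1 h.symm
          · apply hev
            have h3 : e * v * v = v := by rw [← h, one_mul]
            rwa [mul_assoc, hvv, mul_one] at h3
      have h3 := Set.eq_of_subset_of_ncard_le h1 (by
        rw [h2]
        exact hK.le)
      intro y hy
      rw [h3]
      exact (hmk y).2 hy
    rcases hmem (α e) (hmap e he) with h | h | h | h
    · exact absurd ((map_eq_one_iff _ α.injective).1 h) he1
    · exact absurd (α.injective (h.trans hαv.symm)) hev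
    · exact h
    · exact eq_of_odd_pow hα hn h hαv hvv

/-- Automorphisms of odd order of a group with a characteristic involution `z` such that the quotient
is abelian of order 8, not elementary abelian. -/
theorem aut_eq_one_of_sixteen (h16 : Nat.card D = 16) {z : D} (hz2 : z * z = 1) (hz1 : z ≠ 1)
    (hzc : ∀ d : D, d * z = z * d) (hcom : ∀ a b : D, a * b = b * a ∨ a * b = b * a * z)
    (hne : ∃ a b : D, a * b ≠ b * a) {x : D} (hx : x * x ≠ 1) (hxz : x * x ≠ z)
    {α : MulAut D} {n : ℕ} (hα : α ^ n = 1) (hn : Odd n) : α = 1 := by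
  have hfin : Finite D := Nat.finite_of_card_ne_zero (by rw [h16]; norm_num)
  -- `z` is fixed
  have hαz : α z = z := by
    obtain ⟨a, b, hab⟩ := hne
    have h1 : a * b = b * a * z := (hcom a b).resolve_left hab
    have h2 := congrArg α h1
    rw [map_mul, map_mul, map_mul] at h2
    rcases hcom (α a) (α b) with h3 | h3
    · exfalso
      apply hab
      apply α.injective
      rw [map_mul, map_mul, h3]
    · rw [h3] at h2
      exact (mul_left_cancel h2).symm
  have hzord : orderOf z = 2 := orderOf_eq_prime (by rw [pow_two]; exact hz2) hz1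
  let N : Subgroup D := Subgroup.zpowers z
  have hmemN : ∀ y, y ∈ N ↔ y = 1 ∨ y = z := by
    intro y
    constructor
    · intro hy
      obtain ⟨k, rfl⟩ := Subgroup.mem_zpowers_iff.1 hy
      rcases Int.even_or_odd k with ⟨m, rfl⟩ | ⟨m, rfl⟩
      · left
        rw [← two_mul, zpow_mul]
        have : z ^ (2 : ℤ) = 1 := by
          rw [show (2 : ℤ) = 1 + 1 by norm_num, zpow_add, zpow_one, hz2]
        rw [this, one_zpow]
      · right
        rw [zpow_add, zpow_mul, zpow_one]
        have : z ^ (2 : ℤ) = 1 := by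
          rw [show (2 : ℤ) = 1 + 1 by norm_num, zpow_add, zpow_one, hz2]
        rw [this, one_zpow, one_mul]
    · rintro (rfl | rfl)
      · exact one_mem _
      · exact Subgroup.mem_zpowers _
  have hN : N.Normal := ⟨fun y hy g => by
    rcases (hmemN y).1 hy with h | h
    · rw [h, mul_one, mul_inv_cancel]; exact one_mem _
    · rw [h, hzc, mul_inv_cancel_right]; exact Subgroup.mem_zpowers _⟩
  have hNmap : N.map α.toMonoidHom = N := by
    rw [MonoidHom.map_zpowers]
    change Subgroup.zpowers (α z) = _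
    rw [hαz]
  let β : MulAut (D ⧸ N) := QuotientGroup.congr N N α hNmap
  have hβ : ∀ y : D, β (QuotientGroup.mk y) = QuotientGroup.mk (α y) := fun y => rfl
  have hβn : β ^ n = 1 := by
    have key : ∀ k : ℕ, ∀ y : D, (β ^ k) (QuotientGroup.mk y) = QuotientGroup.mk ((α ^ k) y) := by
      intro k
      induction k with
      | zero => intro y; simp
      | succ k ih => intro y; rw [pow_succ', pow_succ', MulAut.mul_apply, MulAut.mul_apply, ih, hβ]
    apply MulEquiv.ext
    intro q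
    obtain ⟨y, rfl⟩ := QuotientGroup.mk_surjective q
    rw [key n y, hα]
    rfl
  have hq8 : Nat.card (D ⧸ N) = 8 := by
    have h1 := Subgroup.card_mul_index N
    rw [h16, Nat.card_zpowers, hzord] at h1
    have h2 : N.index = 8 := by omega
    exact h2
  have hqab : ∀ q r : D ⧸ N, q * r = r * q := by
    intro q r
    obtain ⟨y, rfl⟩ := QuotientGroup.mk_surjective q
    obtain ⟨w, rfl⟩ := QuotientGroup.mk_surjective r
    rw [← QuotientGroup.mk_mul, ← QuotientGroup.mk_mul]
    rcases hcom w y with h | h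
    · rw [h]
    · rw [h, QuotientGroup.mk_mul N (y * w) z, (QuotientGroup.eq_one_iff z).2
        (Subgroup.mem_zpowers z), mul_one]
  have hqx : (QuotientGroup.mk x : D ⧸ N) * QuotientGroup.mk x ≠ 1 := by
    rw [← QuotientGroup.mk_mul, Ne, QuotientGroup.eq_one_iff]
    intro h
    rcases (hmemN _).1 h with h1 | h1
    · exact hx h1
    · exact hxz h1
  have hβ1 := aut_eq_one_of_eight hq8 hqab hqx hβn hn
  apply MulEquiv.ext
  intro y
  have h1 := hβ y
  rw [hβ1] at h1
  have h2 : y⁻¹ * α y ∈ N := QuotientGroup.eq.1 h1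
  rcases (hmemN _).1 h2 with h3 | h3
  · exact (inv_mul_eq_one.1 h3).symm
  · exact eq_of_odd_pow hα hn (w := z) (by rw [← h3]; group) hαz hz2

end Aut

section Block

variable {G : Type u} [Group G] [Finite G] {M : Ideal AlgInt} {B : Set (IrrCharacter G)}

/-- An abelian defect group whose automorphism group is a `p`-group. -/
theorem rank_one_of_aut {p : ℕ} [Fact p.Prime] (hM : IsPModular p M) (hB : IsPBlock M B)
    {D : Subgroup G} (hD : IsDefectGroup p M B D) (hab : ∀ x ∈ D, ∀ y ∈ D, x * y = y * x)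
    (haut : IsPGroup p (MulAut D)) : blockRank p B = 1 := by
  have := Fintype.ofFinite G
  have := Cfsg.Agent.Blocks.Local.isPrime_of_isPModular hM
  obtain ⟨e, he⟩ := Cfsg.Agent.H649.exists_pair_of_isDefectGroup hM hB hD
  have hmax := Cfsg.Agent.H644.isMaximalBrauerPair_of_isDefectGroup hM he hD
  refine (Cfsg.Agent.S4689.result p M hM B ?_).1
  rw [Cfsg.Agent.S4687.result p M hM B D e hmax hab]
  intro g hg hst
  have h1 : Cfsg.Agent.H649.conjIdx g ⟨D, e⟩ = (⟨D, e⟩ : BrauerPairIdx G) :=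
    (Cfsg.Agent.H649.conjIdx_eq_iff hmax.1.1.2 g).2 ⟨hg, hst⟩
  obtain ⟨d, hd, hgd⟩ := Cfsg.Agent.H642.DihFus.exists_mem_conj (a := ⟨D, e⟩) hM hmax (R := D)
    le_rfl Subgroup.le_normalizer haut (f := e) Relation.ReflTransGen.refl h1
  rw [Subgroup.mem_centralizer_iff]
  intro y hy
  have h2 := hgd y hy
  rw [hab d hd y hy, mul_inv_cancel_right] at h2
  calc y * g = g * y * g⁻¹ * g := by rw [h2]
    _ = g * y := by group

/-- Abelian defect groups of order 8 which are not elementary abelian. -/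
theorem rank_one_of_abelian_eight (hM : IsPModular 2 M) (hB : IsPBlock M B) {D : Subgroup G}
    (hD : IsDefectGroup 2 M B D) (hab : ∀ x ∈ D, ∀ y ∈ D, x * y = y * x)
    (h8 : Nat.card D = 8) {x : G} (hx : x ∈ D) (hxx : x * x ≠ 1) : blockRank 2 B = 1 := by
  have : Fact (Nat.Prime 2) := ⟨Nat.prime_two⟩
  refine rank_one_of_aut hM hB hD hab (isPGroup_two_of_odd fun α hα => ?_)
  exact aut_eq_one_of_eight h8 (fun y w => Subtype.ext (hab y y.2 w w.2)) (x := ⟨x, hx⟩)
    (fun h => hxx (congrArg Subtype.val h)) (pow_orderOf_eq_one α) hα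

end Block

end Cfsg.Agent.H602.Small
end

-- part: H602/Small/Inv
section
/-!
# Fusion in 2-groups with a centre of index four and a commutator subgroup of order two

* `exists_pow_conj`: conjugacy of involutions in a group without commuting involutions;
* `aut_central_fixed`: for `|Z(S)| = 4` the maps of `Aut_F(C_S(y))` do not move elements of `Z(S)`
  inside `Z(S)`;
* `exists_conj_of_isPGroup_aut`: `Aut_F(Q)` is induced by `S` if `Q` is normal in `S` and `Aut(Q)` is a
  `p`-group.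
-/

set_option autoImplicit false
set_option linter.unusedSectionVars false

namespace Cfsg.Agent.H602.Small

open Cfsg Cfsg.FusionSystem Cfsg.Agent.H802 Cfsg.Agent.H617.FusInv Cfsg.Agent.H617.FusTwo
open Cfsg.Agent.H617.FusFour Cfsg.Agent.H617.FusMain

/-- Two involutions are conjugate if there are no commuting involutions. -/
theorem exists_pow_conj {H : Type*} [Group H] [Finite H]
    (hH : ∀ σ τ : H, σ * σ = 1 → τ * τ = 1 → σ ≠ 1 → τ ≠ 1 → σ * τ = τ * σ → σ = τ)
    {σ τ : H} (hσ : σ * σ = 1) (hτ : τ * τ = 1) (hσ1 : σ ≠ 1) (hτ1 : τ ≠ 1) :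
    ∃ k : ℕ, (σ * τ) ^ k * σ * ((σ * τ) ^ k)⁻¹ = τ := by
  have hσi : σ⁻¹ = σ := inv_eq_of_mul_eq_one_right hσ
  have hτi : τ⁻¹ = τ := inv_eq_of_mul_eq_one_right hτ
  obtain ⟨ρ, hρ⟩ : ∃ ρ, ρ = σ * τ := ⟨_, rfl⟩
  rw [← hρ]
  have h1 : σ * ρ * σ⁻¹ = ρ⁻¹ := by
    rw [hρ, mul_inv_rev, hσi, hτi, ← mul_assoc, hσ, one_mul]
  have h2 : τ * ρ * τ⁻¹ = ρ⁻¹ := by
    rw [hρ, mul_inv_rev, hσi, hτi, mul_assoc τ, mul_assoc σ, hτ, mul_one]
  have h1k : ∀ k : ℕ, σ * ρ ^ k * σ⁻¹ = (ρ ^ k)⁻¹ := fun k => by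
    rw [← conj_pow, h1, inv_pow]
  have h2k : ∀ k : ℕ, τ * ρ ^ k * τ⁻¹ = (ρ ^ k)⁻¹ := fun k => by
    rw [← conj_pow, h2, inv_pow]
  rcases Nat.even_or_odd (orderOf ρ) with ⟨k, hk⟩ | ⟨k, hk⟩
  · exfalso
    have hpos := orderOf_pos ρ
    obtain ⟨μ, hμ⟩ : ∃ μ, μ = ρ ^ k := ⟨_, rfl⟩
    have hμ2 : μ * μ = 1 := by rw [hμ, ← pow_add, ← hk, pow_orderOf_eq_one]
    have hμ1 : μ ≠ 1 := by
      intro h
      rw [hμ] at h
      have := Nat.le_of_dvd (by omega) (orderOf_dvd_of_pow_eq_one h)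
      omega
    have hμi : μ⁻¹ = μ := inv_eq_of_mul_eq_one_right hμ2
    have h3 : σ * μ = μ * σ := by
      have h4 := h1k k
      rw [← hμ, hμi] at h4
      calc σ * μ = σ * μ * σ⁻¹ * σ := by group
        _ = μ * σ := by rw [h4]
    have h5 : τ * μ = μ * τ := by
      have h4 := h2k k
      rw [← hμ, hμi] at h4
      calc τ * μ = τ * μ * τ⁻¹ * τ := by group
        _ = μ * τ := by rw [h4]
    have h6 := hH σ μ hσ hμ2 hσ1 hμ1 h3
    have h7 := hH τ μ hτ hμ2 hτ1 hμ1 h5
    have h8 : ρ = 1 := by rw [hρ, h6, h7, hμ2]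
    apply hμ1
    rw [hμ, h8, one_pow]
  · refine ⟨k, ?_⟩
    have h3 : ρ ^ k * σ * (ρ ^ k)⁻¹ = σ * ((ρ ^ k)⁻¹ * (ρ ^ k)⁻¹) := by
      have h4 : ρ ^ k * σ = σ * (ρ ^ k)⁻¹ := by
        rw [← h1k k, hσi]
        rw [← mul_assoc, ← mul_assoc, hσ, one_mul]
      rw [h4, mul_assoc]
    rw [h3]
    have h5 : (ρ ^ k)⁻¹ * (ρ ^ k)⁻¹ = ρ := by
      rw [← mul_inv_rev, ← pow_add, inv_eq_iff_mul_eq_one, ← pow_succ]
      have : k + k + 1 = orderOf ρ := by omega
      rw [this, pow_orderOf_eq_one]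
    rw [h5, hρ, ← mul_assoc, hσ, one_mul]

/-- Elements of 2-power order when the Sylow 2-subgroups have order two. -/
theorem sq_eq_one_of_sylow {H : Type*} [Group H] [Finite H] (R : Sylow 2 H)
    (hR : Nat.card R = 2) {μ : H} {k : ℕ} (hμ : μ ^ 2 ^ k = 1) : μ * μ = 1 := by
  have : Fact (Nat.Prime 2) := ⟨Nat.prime_two⟩
  have hP : IsPGroup 2 (Subgroup.zpowers μ) := by
    obtain ⟨m, -, hm⟩ := (Nat.dvd_prime_pow Nat.prime_two).1 (orderOf_dvd_of_pow_eq_one hμ)
    exact IsPGroup.of_card (n := m) (by rw [Nat.card_zpowers, hm])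
  obtain ⟨Q, hQ⟩ := hP.exists_le_sylow
  have hQc : Nat.card Q = 2 := (Nat.card_congr (Sylow.equiv Q R).toEquiv).trans hR
  have h1 : orderOf μ ∣ 2 := by
    rw [← hQc, ← Nat.card_zpowers]
    exact Subgroup.card_dvd_of_le hQ
  rw [← pow_two]
  exact orderOf_dvd_iff_pow_eq_one.1 h1

variable {Ω : Type*} [Group Ω] {S : Subgroup Ω}

/-- `Aut_F(Q)` is induced by `S` when `Aut(Q)` is a `p`-group. -/
theorem exists_conj_of_isPGroup_aut {p : ℕ} [Fact p.Prime] [Finite S] (hS : IsPGroup p S)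
    {F : FusionSystem S} (hF : F.IsSaturated p) {Q : Subgroup Ω} (hQ : Q ≤ S)
    (hn : S ≤ Subgroup.normalizer (Q : Set Ω)) (haut : IsPGroup p (MulAut Q)) {α : MulAut Q}
    (hα : α ∈ F.autGroup Q) : ∃ s ∈ S, ∀ r : Q, ((α r : Q) : Ω) = s * r * s⁻¹ := by
  obtain ⟨-, R, hR⟩ := isFullyAutomized_of_isFullyNormalized hS hF
    (isFullyNormalized_of_le_normalizer F hQ hn)
  have hp' : IsPGroup p (F.autGroup Q) := haut.to_subgroup _
  have hRtop : (R : Subgroup (F.autGroup Q)) = ⊤ :=
    (R.3 (Q := ⊤) (hp'.of_equiv Subgroup.topEquiv.symm) le_top).symm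
  have h2 : (⟨α, hα⟩ : F.autGroup Q) ∈ (autInducedBy S Q).subgroupOf (F.autGroup Q) := by
    rw [← hR, hRtop]
    exact Subgroup.mem_top _
  exact (mem_autInducedBy_iff S Q α).1 (Subgroup.mem_subgroupOf.1 h2)

section Quarter

variable [Finite S] (hS : IsPGroup 2 S) {F : FusionSystem S} (hF : F.IsSaturated 2)
  (h4 : (Z S).relIndex S = 4) {z : Ω} (hz : z ∈ Z S)
  (hz2 : z * z = 1) (hcom : ∀ a ∈ S, ∀ b ∈ S, a * b = b * a ∨ a * b = b * a * z)

include hS hF h4 in
/-- The Sylow 2-subgroups of `Aut_F(C_S(y))` have order two. -/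
theorem exists_sylow_two {y : Ω} (hy : y ∈ S) (hyZ : y ∉ Z S) :
    ∃ R : Sylow 2 (F.autGroup (C S y)), Nat.card R = 2 := by
  have hp : Fact (Nat.Prime 2) := ⟨Nat.prime_two⟩
  obtain ⟨hr1, hr2⟩ := relIndex_C h4 hy hyZ
  have hCS : C S y ≤ S := C_le y
  have hnorm := le_normalizer_of_relIndex_two hCS hr2
  have hab : ∀ a ∈ C S y, ∀ b ∈ C S y, a * b = b * a := fun a ha b hb =>
    comm_of_mem_C h4 hy hyZ ha hb
  obtain ⟨s, hs, hsC⟩ := exists_not_mem_C hy hyZ
  have hsy : s * y ≠ y * s := fun h => hsC (mem_C.2 ⟨hs, h.symm⟩)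
  have hcard := card_autInducedBy_of_relIndex_two hCS hr2 hab hs (self_mem_C hy) hsy
  obtain ⟨-, R, hR⟩ := isFullyAutomized_of_isFullyNormalized hS hF
    (isFullyNormalized_of_le_normalizer F hCS hnorm)
  refine ⟨R, ?_⟩
  have h1 : Nat.card R = Nat.card ((autInducedBy S (C S y)).subgroupOf (F.autGroup (C S y))) := by
    rw [← hR]
  rw [h1, Nat.card_congr (Subgroup.subgroupOfEquivOfLe
    (autInducedBy_le_autGroup F hCS)).toEquiv, hcard]

include hS hF h4 hz hz2 hcom in
/-- Central elements are not fused by `Aut_F(C_S(y))`. -/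
theorem aut_central_fixed (hZ4 : Nat.card (Z S) = 4) (hz1 : z ≠ 1) {y : Ω} (hy : y ∈ S)
    (hyZ : y ∉ Z S) {α : MulAut (C S y)} (hα : α ∈ F.autGroup (C S y)) {c : C S y}
    (hc : (c : Ω) ∈ Z S) (hαc : ((α c : C S y) : Ω) ∈ Z S) : α c = c := by
  have hp : Fact (Nat.Prime 2) := ⟨Nat.prime_two⟩
  obtain ⟨R, hR⟩ := exists_sylow_two hS hF h4 hy hyZ
  obtain ⟨hr1, hr2⟩ := relIndex_C h4 hy hyZ
  have hCS : C S y ≤ S := C_le y
  have hfin : Finite (C S y) := finite_of_le hCS
  have hfinM : Finite (MulAut (C S y)) := inferInstance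
  have hnorm := le_normalizer_of_relIndex_two hCS hr2
  have hab : ∀ a ∈ C S y, ∀ b ∈ C S y, a * b = b * a := fun a ha b hb =>
    comm_of_mem_C h4 hy hyZ ha hb
  obtain ⟨s, hs, hsC⟩ := exists_not_mem_C hy hyZ
  obtain ⟨τ, hτF, hτS, hτ⟩ := exists_conjAut_mem (F := F) hCS hs (hnorm hs)
  have hτZ : ∀ a : C S y, (a : Ω) ∈ Z S ↔ τ a = a := by
    intro a
    constructor
    · intro ha
      apply Subtype.ext
      rw [hτ, (mem_Z.1 ha).2 s hs, mul_inv_cancel_right]
    · intro ha
      have h1 := hτ a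
      rw [ha] at h1
      refine mem_Z_of_comm h4 hy hyZ a.2 hs hsC ?_
      calc s * (a : Ω) = s * a * s⁻¹ * s := by group
        _ = a * s := by rw [← h1]
  have hτ2 : τ * τ = 1 := by
    apply MulEquiv.ext
    intro a
    apply Subtype.ext
    rw [MulAut.mul_apply, hτ, hτ]
    have h1 : s * s ∈ C S y := by
      rw [mul_mem_iff_of_relIndex_two hr2 hs hs]
    have h2 := hab _ h1 a a.2
    calc s * (s * (a : Ω) * s⁻¹) * s⁻¹ = (s * s * a) * (s * s)⁻¹ := by group
      _ = a := by rw [h2]; group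
  have hτ1 : τ ≠ 1 := by
    intro h
    apply hyZ
    rw [show y = ((⟨y, self_mem_C hy⟩ : C S y) : Ω) from rfl, hτZ, h]
    rfl
  let zC : C S y := ⟨z, Z_le_C hy hz⟩
  have hτz : ∀ a : C S y, τ a = a ∨ τ a = a * zC := by
    intro a
    rcases hcom s hs a (hCS a.2) with h1 | h1
    · left
      apply Subtype.ext
      rw [hτ, h1, mul_inv_cancel_right]
    · right
      apply Subtype.ext
      rw [hτ, h1, mul_assoc (a : Ω) s z, (mem_Z.1 hz).2 s hs, mul_assoc, mul_assoc,
        mul_inv_cancel, mul_one]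
      rfl
  -- no commuting involutions
  have hH : ∀ σ ρ : F.autGroup (C S y), σ * σ = 1 → ρ * ρ = 1 → σ ≠ 1 → ρ ≠ 1 →
      σ * ρ = ρ * σ → σ = ρ := fun σ ρ h1 h2 h3 h4 h5 =>
    eq_of_commuting_involutions R hR (by rw [pow_two]; exact h1) (by rw [pow_two]; exact h2)
      h5 h3 h4
  -- the element `γ`
  obtain ⟨γ, hγF, hγc, hγτ⟩ : ∃ γ ∈ F.autGroup (C S y), γ c = α c ∧ γ * τ = τ * γ := by
    let τA : F.autGroup (C S y) := ⟨τ, hτF⟩
    let αA : F.autGroup (C S y) := ⟨α, hα⟩
    obtain ⟨k, hk⟩ := exists_pow_conj hH (σ := αA * τA * αA⁻¹) (τ := τA)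
      (by
        have h1 : τA * τA = 1 := Subtype.ext hτ2
        calc αA * τA * αA⁻¹ * (αA * τA * αA⁻¹) = αA * (τA * τA) * αA⁻¹ := by group
          _ = 1 := by rw [h1]; group)
      (Subtype.ext hτ2)
      (by
        intro h
        apply hτ1
        have h1 : τA = αA⁻¹ * (αA * τA * αA⁻¹) * αA := by group
        rw [h] at h1
        have h2 : τA = 1 := by rw [h1]; group
        exact congrArg Subtype.val h2)
      (fun h => hτ1 (congrArg Subtype.val h))
    set β := (αA * τA * αA⁻¹ * τA) ^ k with hβ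
    have hfix : ((β : F.autGroup (C S y)) : MulAut (C S y)) (α c) = α c := by
      have h1 : ((αA * τA * αA⁻¹ * τA : F.autGroup (C S y)) : MulAut (C S y)) (α c) = α c := by
        change α (τ (α⁻¹ (τ (α c)))) = α c
        rw [(hτZ (α c)).1 hαc, MulAut.inv_apply_self, (hτZ c).1 hc]
      have h2 : ∀ j : ℕ, (((αA * τA * αA⁻¹ * τA) ^ j : F.autGroup (C S y)) :
          MulAut (C S y)) (α c) = α c := by
        intro j
        induction j with
        | zero => rfl
        | succ j ih => rw [pow_succ, Subgroup.coe_mul, MulAut.mul_apply, h1, ih]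
      exact h2 k
    refine ⟨(β : MulAut (C S y)) * α, Subgroup.mul_mem _ β.2 hα, ?_, ?_⟩
    · rw [MulAut.mul_apply, hfix]
    · have h3 : β * αA * τA = τA * (β * αA) := by
        calc β * αA * τA = β * (αA * τA * αA⁻¹) * β⁻¹ * (β * αA) := by group
          _ = τA * (β * αA) := by rw [hk]
      exact congrArg Subtype.val h3
  have hγτ' : ∀ a, γ (τ a) = τ (γ a) := fun a => by
    rw [← MulAut.mul_apply, hγτ, MulAut.mul_apply]
  have hzC1 : zC ≠ 1 := fun h => hz1 (congrArg Subtype.val h)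
  have hzC2 : zC * zC = 1 := Subtype.ext hz2
  -- `γ` fixes `z`
  have hγz : γ zC = zC := by
    have h1 : ¬ τ ⟨y, self_mem_C hy⟩ = ⟨y, self_mem_C hy⟩ := fun h => hyZ ((hτZ _).2 h)
    have h2 := (hτz ⟨y, self_mem_C hy⟩).resolve_left h1
    have h3 := hγτ' ⟨y, self_mem_C hy⟩
    rw [h2, map_mul] at h3
    rcases hτz (γ ⟨y, self_mem_C hy⟩) with h5 | h5
    · rw [h5] at h3
      exact absurd ((map_eq_one_iff _ γ.injective).1 (mul_eq_left.1 h3)) hzC1
    · rw [h5] at h3
      exact mul_left_cancel h3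
  rw [← hγc]
  by_cases hc1 : c = 1
  · rw [hc1, map_one]
  by_cases hcz : c = zC
  · rw [hcz]; exact hγz
  -- the centre is `{1, z, c, cz}`
  have hγcZ : ((γ c : C S y) : Ω) ∈ Z S := by rw [hγc]; exact hαc
  have hcc : ((c : Ω)) ≠ 1 := fun h => hc1 (Subtype.ext h)
  have hcz' : (c : Ω) ≠ z := fun h => hcz (Subtype.ext h)
  have hmem : ∀ w ∈ Z S, w ∈ ({1, z, (c : Ω), (c : Ω) * z} : Set Ω) := by
    have hfinZ : (Z S : Set Ω).Finite := by
      have : Finite (Z S) := finite_of_le Z_le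
      exact Set.toFinite _
    have h1 : ({1, z, (c : Ω), (c : Ω) * z} : Set Ω) ⊆ (Z S : Set Ω) := by
      rintro w (rfl | rfl | rfl | rfl)
      · exact one_mem _
      · exact hz
      · exact hc
      · exact (Z S).mul_mem hc hz
    have h2 : Set.ncard ({1, z, (c : Ω), (c : Ω) * z} : Set Ω) = 4 := by
      rw [Set.ncard_insert_of_notMem, Set.ncard_insert_of_notMem, Set.ncard_pair]
      · exact fun h => hz1 (left_eq_mul.1 h)
      · rintro (h | h)
        · exact hcz' h.symm
        · exact hcc (right_eq_mul.1 h)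
      · rintro (h | h | h)
        · exact hz1 h.symm
        · exact hcc h.symm
        · apply hcz'
          have h3 : (c : Ω) * z * z = z := by rw [← h, one_mul]
          rwa [mul_assoc, hz2, mul_one] at h3
    have h3 := Set.eq_of_subset_of_ncard_le h1 (by
      rw [h2]
      exact hZ4.le) hfinZ
    intro w hw
    rw [h3]
    exact hw
  rcases hmem _ hγcZ with h | h | h | h
  · exact absurd ((map_eq_one_iff _ γ.injective).1 (Subtype.ext h)) hc1
  · exfalso
    apply hcz
    apply γ.injective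
    rw [hγz]
    exact Subtype.ext h
  · exact Subtype.ext h
  · exfalso
    have hγc2 : γ c = c * zC := Subtype.ext h
    -- the odd part
    obtain ⟨k, m, hm, hk⟩ := Nat.exists_eq_two_pow_mul_odd (orderOf_pos γ).ne'
    have hpow : ∀ j : ℕ, (γ ^ j) c = c * zC ^ j := by
      intro j
      induction j with
      | zero => simp
      | succ j ih => rw [pow_succ', MulAut.mul_apply, ih, map_mul, map_pow, hγz, hγc2, pow_succ',
          mul_assoc]
    have hzm : zC ^ m = zC := by
      obtain ⟨i, rfl⟩ := hm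
      rw [pow_succ, pow_mul, pow_two, hzC2, one_pow, one_mul]
    let μ : F.autGroup (C S y) := ⟨γ, hγF⟩ ^ m
    have hμ2k : μ ^ 2 ^ k = 1 := by
      apply Subtype.ext
      change (γ ^ m) ^ 2 ^ k = 1
      rw [← pow_mul, mul_comm, ← hk, pow_orderOf_eq_one]
    have hμμ := sq_eq_one_of_sylow R hR hμ2k
    have hμc : ((μ : F.autGroup (C S y)) : MulAut (C S y)) c = c * zC := by
      change (γ ^ m) c = _
      rw [hpow, hzm]
    have hμ1 : μ ≠ 1 := by
      intro h
      rw [h] at hμc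
      have h5 : c = c * zC := hμc
      exact hzC1 (left_eq_mul.1 h5)
    have hμτ : μ * ⟨τ, hτF⟩ = ⟨τ, hτF⟩ * μ := by
      have h5 : Commute γ τ := hγτ
      exact Subtype.ext (h5.pow_left m).eq
    have h6 := hH μ ⟨τ, hτF⟩ hμμ (Subtype.ext hτ2) hμ1 (fun h => hτ1 (congrArg Subtype.val h))
      hμτ
    rw [h6] at hμc
    have h7 : τ c = c * zC := hμc
    rw [(hτZ c).1 hc] at h7
    exact hzC1 (left_eq_mul.1 h7)

end Quarter

end Cfsg.Agent.H602.Small
end

-- part: H602/Small/InvSixteen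
section
/-!
# Fusion in minimal nonabelian groups of order 16

`S` of order 16 with commutator subgroup `{1, z}`, `x ∈ S` with `x * x ∉ {1, z}`.
* `relIndex_Z_sixteen`: `|S : Z(S)| = 4`;
* `exists_seven`: there are seven nontrivial elements of `S`, pairwise not conjugate in a saturated
  fusion system over `S`.
-/

set_option autoImplicit false
set_option linter.unusedSectionVars false

namespace Cfsg.Agent.H602.Small

open Cfsg Cfsg.FusionSystem Cfsg.Agent.H802 Cfsg.Agent.H617.FusInv Cfsg.Agent.H617.FusTwo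
open Cfsg.Agent.H617.FusFour Cfsg.Agent.H617.FusMain

variable {Ω : Type*} [Group Ω] {S : Subgroup Ω}

theorem relIndex_Z_sixteen [Finite S] (hna : Z S ≠ S) (hE : Nat.card (E S) = 2)
    (h16 : Nat.card S = 16) : (Z S).relIndex S = 4 ∧ Nat.card (Z S) = 4 := by
  obtain ⟨x, hx, hxZ⟩ := exists_not_mem_Z hna
  obtain ⟨y, hy, hyC⟩ := exists_not_mem_C hx hxZ
  have hyZ : y ∉ Z S := fun h => hyC (Z_le_C hx h)
  have hxC : x ∉ C S y := fun h => hyC (mem_C.2 ⟨hy, (mem_C.1 h).2.symm⟩)
  have h1 := relIndex_C_two hna hE hx hxZ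
  have h2 := relIndex_C_two hna hE hy hyZ
  obtain ⟨K, hK⟩ : ∃ K, K = C S x ⊓ C S y := ⟨_, rfl⟩
  have hKx : K ≤ C S x := hK ▸ inf_le_left
  have hKy : K ≤ C S y := hK ▸ inf_le_right
  have hKS : K ≤ S := hKx.trans (C_le x)
  have hKrel : K.relIndex S ≤ 4 := by
    rw [hK]
    refine (Subgroup.relIndex_inf_le).trans ?_
    rw [h1, h2]
  have h3 := Subgroup.relIndex_mul_relIndex K (C S x) S hKx (C_le x)
  rw [h1] at h3
  have hKCx : K.relIndex (C S x) ≠ 1 := fun h =>
    hxC (hKy (Subgroup.relIndex_eq_one.1 h (self_mem_C hx)))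
  have hcS := card_eq_mul_relIndex hKS
  have hKrel' : K.relIndex (C S x) = 2 := by
    have h4 : K.relIndex (C S x) ≠ 0 := by
      intro h
      rw [h, zero_mul] at h3
      rw [← h3, mul_zero, h16] at hcS
      omega
    omega
  have hK4 : Nat.card K = 4 := by
    rw [hKrel'] at h3
    rw [← h3, h16] at hcS
    omega
  have hZK : Z S ≤ K := by
    rw [hK]
    exact le_inf (Z_le_C hx) (Z_le_C hy)
  have hKab : ∀ a ∈ K, ∀ b ∈ K, a * b = b * a := by
    have hp : Fact (Nat.Prime 2) := ⟨Nat.prime_two⟩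
    have h5 := IsPGroup.isMulCommutative_of_card_eq_prime_sq (p := 2) (G := K)
      (by rw [hK4]; norm_num)
    intro a ha b hb
    exact congrArg Subtype.val (h5.is_comm.comm ⟨a, ha⟩ ⟨b, hb⟩)
  have hCx : ∀ s ∈ C S x, ∀ k ∈ K, s * k = k * s := by
    intro s hs k hk
    by_cases hsK : s ∈ K
    · exact hKab s hsK k hk
    · have h4 := inv_mul_mem_of_relIndex_two hKrel' (self_mem_C hx) hs
        (fun h => hxC (hKy h)) hsK
      have h5 := hKab _ h4 k hk
      have h6 := (mem_C.1 (hKx hk)).2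
      calc s * k = x * ((x⁻¹ * s) * k) := by group
        _ = x * k * (x⁻¹ * s) := by rw [h5]; group
        _ = k * s := by rw [h6]; group
  have hKZ : K ≤ Z S := by
    intro k hk
    refine mem_Z.2 ⟨hKS hk, fun s hs => ?_⟩
    by_cases hsC : s ∈ C S x
    · exact hCx s hsC k hk
    · have h4 := inv_mul_mem_of_relIndex_two h1 hy hs hyC hsC
      have h5 := hCx _ h4 k hk
      have h6 := (mem_C.1 (hKy hk)).2
      calc s * k = y * ((y⁻¹ * s) * k) := by group
        _ = y * k * (y⁻¹ * s) := by rw [h5]; group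
        _ = k * s := by rw [h6]; group
  have hKe : Z S = K := le_antisymm hZK hKZ
  rw [hKe]
  refine ⟨?_, hK4⟩
  rw [h16, hK4] at hcS
  omega

section Main

variable [Finite S] (hS : IsPGroup 2 S) {F : FusionSystem S} (hF : F.IsSaturated 2)
  (h16 : Nat.card S = 16) (h4 : (Z S).relIndex S = 4) (hZ4 : Nat.card (Z S) = 4)
  {z : Ω} (hz : z ∈ Z S) (hz2 : z * z = 1) (hz1 : z ≠ 1)
  (hcom : ∀ a ∈ S, ∀ b ∈ S, a * b = b * a ∨ a * b = b * a * z)

include h4 in
theorem C_cases {x y g : Ω} (hx : x ∈ S) (hy : y ∈ S) (hyx : y ∉ C S x) (hg : g ∈ S)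
    (hgy : g ∉ C S y) : C S g = C S x ∨ C S g = C S (x * y) := by
  have hyZ : y ∉ Z S := fun h => hyx (Z_le_C hx h)
  have hxy : x ∉ C S y := fun h => hyx (mem_C.2 ⟨hy, (mem_C.1 h).2.symm⟩)
  have hxZ : x ∉ Z S := fun h => hxy (Z_le_C hy h)
  obtain ⟨hr1, hr2⟩ := relIndex_C h4 hy hyZ
  have hgZ : g ∉ Z S := fun h => hgy (Z_le_C hy h)
  have h1 := inv_mul_mem_of_relIndex_two hr2 hx hg hxy hgy
  by_cases h2 : x⁻¹ * g ∈ Z S
  · left
    have h3 : g ∈ C S x := by
      have h5 : g = x * (x⁻¹ * g) := by group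
      rw [h5]
      exact (C S x).mul_mem (self_mem_C hx) (Z_le_C hx h2)
    exact (C_eq_of_mem h4 hx hxZ h3 hgZ).symm
  · right
    have h3 := inv_mul_mem_of_relIndex_two hr1 (self_mem_C hy) h1 hyZ h2
    have hxyS : x * y ∈ S := S.mul_mem hx hy
    have h5 : g = x * y * (y⁻¹ * (x⁻¹ * g)) := by group
    have h6 : g ∈ C S (x * y) := by
      rw [h5]
      exact (C S (x * y)).mul_mem (self_mem_C hxyS) (Z_le_C hxyS h3)
    have h7 : x * y ∉ Z S := by
      intro h
      apply hgZ
      rw [h5]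
      exact (Z S).mul_mem h h3
    exact (C_eq_of_mem h4 hxyS h7 h6 hgZ).symm

include h16 h4 in
theorem card_C {g : Ω} (hg : g ∈ S) (hgZ : g ∉ Z S) : Nat.card (C S g) = 8 := by
  have h1 := card_eq_mul_relIndex (C_le (S := S) g)
  rw [h16, (relIndex_C h4 hg hgZ).2] at h1
  omega

include hS hF h16 h4 hz hz2 hz1 hcom in
/-- The maps of the system are induced by `S`, or act on `C_S(y)`. -/
theorem aut_cases {x y : Ω} (hx : x ∈ S) (hy : y ∈ S) (hyx : y ∉ C S x) (hxx : x * x ≠ 1)
    (hxz : x * x ≠ z) (hxy : ∃ h ∈ C S (x * y), h * h ≠ 1) {Q : Subgroup Ω}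
    (hQc : F.IsCentric Q) {α : MulAut Q} (hα : α ∈ F.autGroup Q) :
    Q = C S y ∨ ∃ s ∈ S, ∀ r : Q, ((α r : Q) : Ω) = s * r * s⁻¹ := by
  have hp : Fact (Nat.Prime 2) := ⟨Nat.prime_two⟩
  have hyZ : y ∉ Z S := fun h => hyx (Z_le_C hx h)
  have hna : Z S ≠ S := fun h => hyZ (by rw [h]; exact hy)
  have hZQ := Z_le_of_isCentric hQc
  have hQS : Q ≤ S := hQc.1
  by_cases hQe : Q = S
  · right
    subst hQe
    refine exists_conj_of_isPGroup_aut hS hF le_rfl Subgroup.le_normalizer
      (isPGroup_two_of_odd fun α hα => ?_) hα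
    refine aut_eq_one_of_sixteen (z := ⟨z, Z_le hz⟩) h16 (Subtype.ext hz2)
      (fun h => hz1 (congrArg Subtype.val h)) (fun d => Subtype.ext ((mem_Z.1 hz).2 d d.2))
      (fun a b => ?_) ?_ (x := ⟨x, hx⟩) (fun h => hxx (congrArg Subtype.val h))
      (fun h => hxz (congrArg Subtype.val h)) (pow_orderOf_eq_one α) hα
    · rcases hcom a a.2 b b.2 with h | h
      · exact Or.inl (Subtype.ext h)
      · exact Or.inr (Subtype.ext h)
    · exact ⟨⟨x, hx⟩, ⟨y, hy⟩, fun h => hyx (mem_C.2 ⟨hy, congrArg Subtype.val h⟩)⟩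
  · obtain ⟨g, hgQ, hgZ⟩ : ∃ g ∈ Q, g ∉ Z S := by
      by_contra hno
      push Not at hno
      have h1 : Q = Z S := le_antisymm hno hZQ
      apply hna
      refine le_antisymm Z_le ?_
      have h2 := hQc.2 Q (isConj_refl F hQS)
      intro s hs
      rw [← h1]
      refine h2 ⟨hs, Subgroup.mem_centralizer_iff.2 fun q hq => ?_⟩
      rw [h1] at hq
      exact ((mem_Z.1 hq).2 s hs).symm
    have hg : g ∈ S := hQS hgQ
    have hQC : Q = C S g := eq_C_of_between h4 hZQ hQS hgQ hgZ hQe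
    by_cases hgy : g ∈ C S y
    · left
      rw [hQC]
      exact (C_eq_of_mem h4 hy hyZ hgy hgZ).symm
    · right
      subst hQC
      obtain ⟨h, hh, hhh⟩ : ∃ h ∈ C S g, h * h ≠ 1 := by
        rcases C_cases h4 hx hy hyx hg hgy with h1 | h1
        · rw [h1]
          exact ⟨x, self_mem_C hx, hxx⟩
        · rw [h1]
          exact hxy
      have hfinC : Finite (C S g) := finite_of_le (C_le g)
      refine exists_conj_of_isPGroup_aut hS hF (C_le g)
        (le_normalizer_of_relIndex_two (C_le g) (relIndex_C h4 hg hgZ).2)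
        (isPGroup_two_of_odd fun α hα => ?_) hα
      exact aut_eq_one_of_eight (card_C h16 h4 hg hgZ)
        (fun a b => Subtype.ext (comm_of_mem_C h4 hg hgZ a.2 b.2)) (x := ⟨h, hh⟩)
        (fun h => hhh (congrArg Subtype.val h)) (pow_orderOf_eq_one α) hα

include hS hF h16 h4 hz hz2 hz1 hcom in
/-- Invariant sets. -/
theorem mem_iff_of_inv {x y : Ω} (hx : x ∈ S) (hy : y ∈ S) (hyx : y ∉ C S x) (hxx : x * x ≠ 1)
    (hxz : x * x ≠ z) (hxy : ∃ h ∈ C S (x * y), h * h ≠ 1) (X : Set Ω)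
    (hX : ∀ s ∈ S, ∀ g ∈ S, g ∈ X → s * g * s⁻¹ ∈ X)
    (hX0 : ∀ α ∈ F.autGroup (C S y), ∀ w : C S y, (w : Ω) ∈ X → ((α w : C S y) : Ω) ∈ X)
    {u v : Ω} (huv : F.IsConjElt u v) : u ∈ X ↔ v ∈ X := by
  have hp : Fact (Nat.Prime 2) := ⟨Nat.prime_two⟩
  refine mem_iff_of_isConjElt hS hF X (fun Q hQn hQc α hα w => ?_) huv
  have hfin : Finite Q := finite_of_le hQn.1
  rcases aut_cases hS hF h16 h4 hz hz2 hz1 hcom hx hy hyx hxx hxz hxy hQc hα with h | ⟨s, hs, h⟩
  · subst h
    exact mem_iff_of_maps (fun w hw => hX0 α hα w hw) w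
  · refine mem_iff_of_maps (fun w hw => ?_) w
    rw [h]
    exact hX s hs w (hQn.1 w.2) hw

include hS hF h16 h4 hz hz2 hz1 hcom in
theorem mem_pair_iff {x y : Ω} (hx : x ∈ S) (hy : y ∈ S) (hyx : y ∉ C S x) (hxx : x * x ≠ 1)
    (hxz : x * x ≠ z) (hxy : ∃ h ∈ C S (x * y), h * h ≠ 1) {u v w : Ω} (hu : u ∈ S)
    (huy : u ∉ C S y) (hvw : F.IsConjElt v w) :
    v ∈ ({u, u * z} : Set Ω) ↔ w ∈ ({u, u * z} : Set Ω) := by
  have hyZ : y ∉ Z S := fun h => hyx (Z_le_C hx h)
  have h1 := mem_iff_of_inv hS hF h16 h4 hz hz2 hz1 hcom hx hy hyx hxx hxz hxy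
    ({u, u * z} : Set Ω) ?_ ?_ hvw
  · exact h1
  · have hconj : ∀ s ∈ S, s * u * s⁻¹ = u ∨ s * u * s⁻¹ = u * z := by
      intro s hs
      rcases hcom s hs u hu with h | h
      · left; rw [h, mul_inv_cancel_right]
      · right
        rw [h, mul_assoc u s z, (mem_Z.1 hz).2 s hs, mul_assoc, mul_assoc, mul_inv_cancel,
          mul_one]
    have hsz : ∀ s ∈ S, s * z * s⁻¹ = z := fun s hs => by
      rw [(mem_Z.1 hz).2 s hs, mul_inv_cancel_right]
    rintro s hs g hg (rfl | rfl)
    · exact hconj s hs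
    · have h2 : s * (u * z) * s⁻¹ = s * u * s⁻¹ * (s * z * s⁻¹) := by group
      rw [h2, hsz s hs]
      rcases hconj s hs with h | h
      · right; rw [h]; rfl
      · left; rw [h, mul_assoc, hz2, mul_one]
  · intro α hα w hw
    exfalso
    rcases hw with h | h
    · exact huy (h ▸ w.2)
    · apply huy
      have h2 : u = (w : Ω) * z := by
        rw [h, mul_assoc, hz2, mul_one]
      rw [h2]
      exact (C S y).mul_mem w.2 (Z_le_C hy hz)

include hS hF h16 h4 hZ4 hz hz2 hz1 hcom in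
theorem eq_of_conj_central {x y : Ω} (hx : x ∈ S) (hy : y ∈ S) (hyx : y ∉ C S x)
    (hxx : x * x ≠ 1) (hxz : x * x ≠ z) (hxy : ∃ h ∈ C S (x * y), h * h ≠ 1) {u v : Ω}
    (hu : u ∈ Z S) (hv : v ∈ Z S) (huv : F.IsConjElt u v) : v = u := by
  have hyZ : y ∉ Z S := fun h => hyx (Z_le_C hx h)
  have hCS : C S y ≤ S := C_le y
  have h1 := mem_iff_of_inv hS hF h16 h4 hz hz2 hz1 hcom hx hy hyx hxx hxz hxy
    ({w | ∃ α ∈ F.autGroup (C S y), ((α ⟨u, Z_le_C hy hu⟩ : C S y) : Ω) = w} : Set Ω) ?_ ?_ huv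
  · obtain ⟨α, hα, hαu⟩ := h1.1 ⟨1, Subgroup.one_mem _, rfl⟩
    have h2 := aut_central_fixed hS hF h4 hz hz2 hcom hZ4 hz1 hy hyZ hα
      (c := ⟨u, Z_le_C hy hu⟩) hu (by rw [hαu]; exact hv)
    rw [h2] at hαu
    exact hαu.symm
  · rintro s hs g hg ⟨α, hα, rfl⟩
    have hnorm := le_normalizer_of_relIndex_two hCS (relIndex_C h4 hy hyZ).2
    obtain ⟨τ, hτF, -, hτ⟩ := exists_conjAut_mem (F := F) hCS hs (hnorm hs)
    exact ⟨τ * α, Subgroup.mul_mem _ hτF hα, by rw [MulAut.mul_apply, hτ]⟩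
  · rintro β hβ w ⟨α, hα, hw⟩
    refine ⟨β * α, Subgroup.mul_mem _ hβ hα, ?_⟩
    rw [MulAut.mul_apply]
    have h2 : α ⟨u, Z_le_C hy hu⟩ = w := Subtype.ext hw
    rw [h2]

omit [Finite S] in
include h4 hz hz2 hcom in
theorem exists_y {x : Ω} (hx : x ∈ S) (hxZ : x ∉ Z S) (hxz : x * x ≠ z) :
    ∃ y ∈ S, y ∉ C S x ∧ ∃ h ∈ C S (x * y), h * h ≠ 1 := by
  obtain ⟨y, hy, hyx⟩ := exists_not_mem_C hx hxZ
  have hxxZ : x * x ∈ Z S := sq_mem_Z h4 hx hxZ (self_mem_C hx)
  have hxyS : x * y ∈ S := S.mul_mem hx hy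
  by_cases h1 : ∃ h ∈ C S (x * y), h * h ≠ 1
  · exact ⟨y, hy, hyx, h1⟩
  · push Not at h1
    have h2 := h1 _ (self_mem_C hxyS)
    have hcc := h1 _ (Z_le_C hxyS hxxZ)
    have hxyx : x * y ∉ C S x := by
      intro h
      apply hyx
      have h3 : y = x⁻¹ * (x * y) := by group
      rw [h3]
      exact (C S x).mul_mem ((C S x).inv_mem (self_mem_C hx)) h
    refine ⟨x * y, hxyS, hxyx, x * (x * y), self_mem_C (S.mul_mem hx hxyS), ?_⟩
    have hyy : y * y ≠ 1 := by
      intro h
      apply hxz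
      have h5 : x * y = y * x * z := by
        rcases hcom x hx y hy with h6 | h6
        · exact absurd (mem_C.2 ⟨hy, h6⟩) hyx
        · exact h6
      have h6 := (mem_Z.1 hz).2 _ hxyS
      -- `x y x y = 1`
      have h7 : x * x * z = 1 := by
        have hzy := (mem_Z.1 hz).2 y hy
        have hzx := (mem_Z.1 hz).2 x hx
        calc x * x * z = x * (x * z) := by group
          _ = x * (z * x) := by rw [hzx]
          _ = x * (z * x) * (y * y) := by rw [h, mul_one]
          _ = x * z * (x * y) * y := by group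
          _ = x * z * (y * x * z) * y := by rw [h5]
          _ = x * (z * y) * x * (z * y) := by group
          _ = x * (y * z) * x * (y * z) := by rw [hzy]
          _ = x * y * (z * x) * y * z := by group
          _ = x * y * (x * z) * y * z := by rw [hzx]
          _ = x * y * x * (z * y) * z := by group
          _ = x * y * x * (y * z) * z := by rw [hzy]
          _ = (x * y * (x * y)) * (z * z) := by group
          _ = 1 := by rw [h2, hz2, one_mul]
      calc x * x = x * x * (z * z) := by rw [hz2, mul_one]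
        _ = x * x * z * z := by group
        _ = z := by rw [h7, one_mul]
    intro h
    apply hyy
    have h5 := (mem_Z.1 hxxZ).2 y hy
    calc y * y = (x * x * (x * x)) * (y * y) := by rw [hcc, one_mul]
      _ = x * x * (x * x * y) * y := by group
      _ = x * x * (y * (x * x)) * y := by rw [h5]
      _ = x * (x * y) * (x * (x * y)) := by group
      _ = 1 := h

include hS hF h16 h4 hZ4 hz hz2 hz1 hcom in
/-- Seven elements, pairwise not conjugate. -/
theorem exists_seven {x : Ω} (hx : x ∈ S) (hxx : x * x ≠ 1) (hxz : x * x ≠ z) :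
    ∃ T : Finset Ω, T.card = 7 ∧ (∀ t ∈ T, t ∈ S ∧ t ≠ 1) ∧
      ∀ s ∈ T, ∀ t ∈ T, F.IsConjElt s t → s = t := by
  classical
  -- `x` is not central
  have hxZ : x ∉ Z S := by
    intro h
    have hfinZ : (Z S : Set Ω).Finite := by
      have : Finite (Z S) := finite_of_le Z_le
      exact Set.toFinite _
    have hzx : z ≠ x := by
      rintro rfl
      exact hxx hz2
    have h1 : ({1, z, x, x * z, x * x} : Set Ω) ⊆ (Z S : Set Ω) := by
      rintro w (rfl | rfl | rfl | rfl | rfl)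
      · exact one_mem _
      · exact hz
      · exact h
      · exact (Z S).mul_mem h hz
      · exact (Z S).mul_mem h h
    have hx1 : x ≠ 1 := fun h5 => hxx (by rw [h5, one_mul])
    have h2 : Set.ncard ({1, z, x, x * z, x * x} : Set Ω) = 5 := by
      rw [Set.ncard_insert_of_notMem, Set.ncard_insert_of_notMem, Set.ncard_insert_of_notMem,
        Set.ncard_pair]
      · exact fun h5 => hzx (mul_left_cancel h5)
      · rintro (h5 | h5)
        · exact hz1 (left_eq_mul.1 h5)
        · exact hx1 (left_eq_mul.1 h5)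
      · rintro (h5 | h5 | h5)
        · exact hzx h5
        · exact hx1 (right_eq_mul.1 h5)
        · exact hxz h5.symm
      · rintro (h5 | h5 | h5 | h5)
        · exact hz1 h5.symm
        · exact hx1 h5.symm
        · apply hzx
          have h6 : x = z⁻¹ := eq_inv_of_mul_eq_one_left h5.symm
          rw [h6, inv_eq_of_mul_eq_one_right hz2]
        · exact hxx h5.symm
    have h3 := Set.ncard_le_ncard h1 hfinZ
    rw [h2] at h3
    have h5 : Set.ncard (Z S : Set Ω) = 4 := hZ4
    omega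
  obtain ⟨y, hy, hyx, hxy⟩ := exists_y h4 hz hz2 hcom hx hxZ hxz
  have hyZ : y ∉ Z S := fun h => hyx (Z_le_C hx h)
  have hxC : x ∉ C S y := fun h => hyx (mem_C.2 ⟨hy, (mem_C.1 h).2.symm⟩)
  obtain ⟨c, hc⟩ : ∃ c, c = x * x := ⟨_, rfl⟩
  have hcZ : c ∈ Z S := by rw [hc]; exact sq_mem_Z h4 hx hxZ (self_mem_C hx)
  have hc1 : c ≠ 1 := by rw [hc]; exact hxx
  have hcz : c ≠ z := by rw [hc]; exact hxz
  have hyc : y * c ∉ Z S := fun h => hyZ (by
    have h1 : y = y * c * c⁻¹ := by group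
    rw [h1]
    exact (Z S).mul_mem h ((Z S).inv_mem hcZ))
  have hne : ∀ {u v : Ω}, u ∈ Z S → v ∉ Z S → u ≠ v := fun hu hv h => hv (h ▸ hu)
  -- the first four
  let T0 : Finset Ω := {1, c, y, y * c}
  have hT0 : T0.card = 4 := by
    change ({1, c, y, y * c} : Finset Ω).card = 4
    rw [Finset.card_insert_of_notMem, Finset.card_insert_of_notMem, Finset.card_pair]
    · exact fun h => hc1 (left_eq_mul.1 h)
    · simp only [Finset.mem_insert, Finset.mem_singleton, not_or]
      exact ⟨hne hcZ hyZ, hne hcZ hyc⟩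
    · simp only [Finset.mem_insert, Finset.mem_singleton, not_or]
      exact ⟨hc1.symm, hne (one_mem _) hyZ, hne (one_mem _) hyc⟩
  have hT0C : ∀ q ∈ T0, q ∈ C S y := by
    intro q hq
    change q ∈ ({1, c, y, y * c} : Finset Ω) at hq
    simp only [Finset.mem_insert, Finset.mem_singleton] at hq
    rcases hq with rfl | rfl | rfl | rfl
    · exact one_mem _
    · exact Z_le_C hy hcZ
    · exact self_mem_C hy
    · exact (C S y).mul_mem (self_mem_C hy) (Z_le_C hy hcZ)
  have hcz' : c * z ≠ 1 := fun h => hcz (by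
    rw [eq_inv_of_mul_eq_one_left h, inv_eq_of_mul_eq_one_right hz2])
  have hT0z : ∀ q ∈ T0, ∀ q' ∈ T0, q' ≠ q * z := by
    intro q hq q' hq' h
    change q ∈ ({1, c, y, y * c} : Finset Ω) at hq
    change q' ∈ ({1, c, y, y * c} : Finset Ω) at hq'
    simp only [Finset.mem_insert, Finset.mem_singleton] at hq hq'
    have hyzZ : y * z ∉ Z S := fun h => hyZ (by
      have h1 : y = y * z * z⁻¹ := by group
      rw [h1]
      exact (Z S).mul_mem h ((Z S).inv_mem hz))
    have hyczZ : y * c * z ∉ Z S := fun h => hyZ (by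
      have h1 : y = y * c * z * z⁻¹ * c⁻¹ := by group
      rw [h1]
      exact (Z S).mul_mem ((Z S).mul_mem h ((Z S).inv_mem hz)) ((Z S).inv_mem hcZ))
    have hczZ : c * z ∈ Z S := (Z S).mul_mem hcZ hz
    rcases hq with rfl | rfl | rfl | rfl <;> rcases hq' with rfl | rfl | rfl | rfl
    · rw [one_mul] at h; exact hz1 h.symm
    · rw [one_mul] at h; exact hcz h
    · rw [one_mul] at h; exact hyZ (h ▸ hz)
    · rw [one_mul] at h; exact hyc (h ▸ hz)
    · exact hcz' h.symm
    · exact hz1 (left_eq_mul.1 h)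
    · exact hyZ (h ▸ hczZ)
    · exact hyc (h ▸ hczZ)
    · exact hyzZ (h ▸ one_mem _)
    · exact hyzZ (h ▸ hcZ)
    · exact hz1 (left_eq_mul.1 h)
    · exact hcz (mul_left_cancel h)
    · exact hyczZ (h ▸ one_mem _)
    · exact hyczZ (h ▸ hcZ)
    · rw [mul_assoc] at h
      exact hcz' (left_eq_mul.1 h)
    · exact hz1 (left_eq_mul.1 h)
  let T1 : Finset Ω := T0.image fun q => x * q
  let T2 : Finset Ω := {z, c, c * z}
  have hT1 : T1.card = 4 := by
    rw [← hT0]
    exact Finset.card_image_of_injective _ (mul_right_injective x)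
  have hT2 : T2.card = 3 := by
    change ({z, c, c * z} : Finset Ω).card = 3
    rw [Finset.card_insert_of_notMem, Finset.card_pair]
    · exact fun h => hz1 (left_eq_mul.1 h)
    · simp only [Finset.mem_insert, Finset.mem_singleton, not_or]
      exact ⟨hcz.symm, fun h => hc1 (right_eq_mul.1 h)⟩
  have hT2Z : ∀ t ∈ T2, t ∈ Z S ∧ t ≠ 1 := by
    intro t ht
    change t ∈ ({z, c, c * z} : Finset Ω) at ht
    simp only [Finset.mem_insert, Finset.mem_singleton] at ht
    rcases ht with rfl | rfl | rfl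
    · exact ⟨hz, hz1⟩
    · exact ⟨hcZ, hc1⟩
    · exact ⟨(Z S).mul_mem hcZ hz, hcz'⟩
  have hT1m : ∀ t ∈ T1, ∃ q ∈ T0, t = x * q := by
    intro t ht
    obtain ⟨q, hq, h⟩ := Finset.mem_image.1 ht
    exact ⟨q, hq, h.symm⟩
  have hT1S : ∀ t ∈ T1, t ∈ S ∧ t ∉ C S y := by
    intro t ht
    obtain ⟨q, hq, rfl⟩ := hT1m t ht
    refine ⟨S.mul_mem hx (C_le y (hT0C q hq)), fun h => hxC ?_⟩
    have h1 : x = x * q * q⁻¹ := by group
    rw [h1]
    exact (C S y).mul_mem h ((C S y).inv_mem (hT0C q hq))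
  have hconj1 : ∀ s ∈ T1, ∀ t, F.IsConjElt s t → t = s ∨ t = s * z := fun s hs t hst =>
    (mem_pair_iff hS hF h16 h4 hz hz2 hz1 hcom hx hy hyx hxx hxz hxy (hT1S s hs).1
      (hT1S s hs).2 hst).1 (Or.inl rfl)
  have hconj1' : ∀ t ∈ T1, ∀ s, F.IsConjElt s t → s = t ∨ s = t * z := fun t ht s hst =>
    (mem_pair_iff hS hF h16 h4 hz hz2 hz1 hcom hx hy hyx hxx hxz hxy (hT1S t ht).1
      (hT1S t ht).2 hst).2 (Or.inl rfl)
  refine ⟨T1 ∪ T2, ?_, ?_, ?_⟩
  · rw [Finset.card_union_of_disjoint, hT1, hT2]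
    rw [Finset.disjoint_left]
    intro t ht1 ht2
    exact (hT1S t ht1).2 (Z_le_C hy (hT2Z t ht2).1)
  · intro t ht
    rcases Finset.mem_union.1 ht with h | h
    · exact ⟨(hT1S t h).1, fun h1 => (hT1S t h).2 (by rw [h1]; exact one_mem _)⟩
    · exact ⟨Z_le (hT2Z t h).1, (hT2Z t h).2⟩
  · intro s hs t ht hst
    rcases Finset.mem_union.1 hs with h | h <;> rcases Finset.mem_union.1 ht with h' | h'
    · rcases hconj1 s h t hst with h1 | h1
      · exact h1.symm
      · exfalso
        obtain ⟨q, hq, rfl⟩ := hT1m s h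
        obtain ⟨q', hq', rfl⟩ := hT1m t h'
        rw [mul_assoc] at h1
        exact hT0z q hq q' hq' (mul_left_cancel h1)
    · exfalso
      have h2 := (hT1S s h).2
      rcases hconj1 s h t hst with h1 | h1
      · apply h2; rw [← h1]; exact Z_le_C hy (hT2Z t h').1
      · apply h2
        have h3 : s = t * z := by rw [h1, mul_assoc, hz2, mul_one]
        rw [h3]
        exact (C S y).mul_mem (Z_le_C hy (hT2Z t h').1) (Z_le_C hy hz)
    · exfalso
      have h2 := (hT1S t h').2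
      rcases hconj1' t h' s hst with h1 | h1
      · apply h2; rw [← h1]; exact Z_le_C hy (hT2Z s h).1
      · apply h2
        have h3 : t = s * z := by rw [h1, mul_assoc, hz2, mul_one]
        rw [h3]
        exact (C S y).mul_mem (Z_le_C hy (hT2Z s h).1) (Z_le_C hy hz)
    · exact (eq_of_conj_central hS hF h16 h4 hZ4 hz hz2 hz1 hcom hx hy hyx hxx hxz hxy
        (hT2Z s h).1 (hT2Z t h').1 hst).symm

end Main

end Cfsg.Agent.H602.Small
end

-- part: H602/Small/Sixteen
section
/-!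
# 2-blocks with minimal nonabelian defect groups of order 16

* `rank_add_le_finset`: `l(B) + |T| ≤ k(B)` for a set `T` of pairwise nonfused nontrivial elements;
* `rank_le_three_of_sixteen_of_sq`: `l(B) ≤ 3` if `|D| = 16`, `|D : D'| = 8` and `D / D'` is not
  elementary abelian.
-/

set_option autoImplicit false
set_option linter.unusedSectionVars false

namespace Cfsg.Agent.H602.Small

open Cfsg Cfsg.FusionSystem Cfsg.Agent.H617.FusTwo Cfsg.Agent.H617.FusFour
open Cfsg.Agent.H617.FusMain Cfsg.Agent.H613.SubFus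

universe u

variable {G : Type u} [Group G] [Finite G] {M : Ideal AlgInt} {B : Set (IrrCharacter G)}

/-- Pairwise nonfused elements. -/
theorem rank_add_le_finset (hM : IsPModular 2 M) {a : BrauerPairIdx G}
    (hmax : IsMaximalBrauerPair 2 M B a.1 a.2) (T : Finset G) (hT : ∀ t ∈ T, t ∈ a.1 ∧ t ≠ 1)
    (hinj : ∀ s ∈ T, ∀ t ∈ T, Fus 2 M a s t → s = t) :
    blockRank 2 B + T.card ≤ Nat.card B := by
  refine rank_add_le hM hmax (fun i : Fin T.card => ((T.equivFin.symm i : T) : G))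
    (fun i => (hT _ (T.equivFin.symm i).2).1) (fun i => (hT _ (T.equivFin.symm i).2).2) ?_
  intro i j h
  have h1 := hinj _ (T.equivFin.symm i).2 _ (T.equivFin.symm j).2 h
  exact T.equivFin.symm.injective (Subtype.ext h1)

/-- The commutator subgroup of order two. -/
theorem exists_z_comm {D : Subgroup G} (hDp : IsPGroup 2 D) (hE : Nat.card (E D) = 2)
    (hna : Z D ≠ D) :
    ∃ z ∈ Z D, z * z = 1 ∧ z ≠ 1 ∧ (∀ a ∈ D, ∀ b ∈ D, a * b = b * a ∨ a * b = b * a * z) ∧
      ∀ w : D, (w : G) = z → w ∈ commutator D := by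
  obtain ⟨z, hz, hz2, hz1, hcom⟩ := exists_z hDp hE
  refine ⟨z, hz, hz2, hz1, hcom, fun w hw => ?_⟩
  obtain ⟨a, b, ha, hb, hab⟩ : ∃ a b, ∃ (_ : a ∈ D) (_ : b ∈ D), a * b ≠ b * a := by
    by_contra hno
    push Not at hno
    exact hna (Z_eq_of_comm fun a ha b hb => hno a b ha hb)
  have h1 : a * b = b * a * z := (hcom a ha b hb).resolve_left hab
  have h2 : w = (⟨a, ha⟩ : D)⁻¹ * (⟨b, hb⟩ : D)⁻¹ * (⟨a, ha⟩ : D)⁻¹⁻¹ * (⟨b, hb⟩ : D)⁻¹⁻¹ := by
    apply Subtype.ext
    rw [hw]
    change z = a⁻¹ * b⁻¹ * a⁻¹⁻¹ * b⁻¹⁻¹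
    have h3 : z = (b * a)⁻¹ * (a * b) := by rw [h1]; group
    rw [h3]
    group
  rw [h2]
  exact Subgroup.commutator_mem_commutator (Subgroup.mem_top _) (Subgroup.mem_top _)

/-- **Minimal nonabelian defect groups of order 16.** -/
theorem rank_le_three_of_sixteen_of_sq (hM : IsPModular 2 M) (hB : IsPBlock M B)
    {D : Subgroup G} (hD : IsDefectGroup 2 M B D) (h16 : Nat.card D = 16)
    (hidx : (commutator D).index = 8) {x : D} (hx : x * x ∉ commutator D) :
    blockRank 2 B ≤ 3 := by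
  classical
  have hp2 : Fact (Nat.Prime 2) := ⟨Nat.prime_two⟩
  have := Fintype.ofFinite G
  have := Cfsg.Agent.Blocks.Local.isPrime_of_isPModular hM
  have hDp : IsPGroup 2 D := Cfsg.Agent.Blocks.Basic.isPGroup_of_isDefectGroup hD
  have hE : Nat.card (E D) = 2 := by
    have h1 := card_E_mul (S := D)
    rw [hidx, h16] at h1
    omega
  have hna : Z D ≠ D := by
    intro h
    have h1 : E D ≤ ⊥ := E_le_of_comm fun a ha b hb => by
      rw [Subgroup.mem_bot]
      have h2 : b ∈ Z D := by rw [h]; exact hb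
      rw [(mem_Z.1 h2).2 a ha]
      group
    rw [le_bot_iff.1 h1, Subgroup.card_bot] at hE
    norm_num at hE
  obtain ⟨z, hz, hz2, hz1, hcom, hzc⟩ := exists_z_comm hDp hE hna
  obtain ⟨h4, hZ4⟩ := relIndex_Z_sixteen hna hE h16
  have hxx : (x : G) * x ≠ 1 := by
    intro h
    apply hx
    have h1 : x * x = 1 := Subtype.ext h
    rw [h1]
    exact one_mem _
  have hxz : (x : G) * x ≠ z := fun h => hx (hzc (x * x) h)
  obtain ⟨e, he⟩ := Cfsg.Agent.H649.exists_pair_of_isDefectGroup hM hB hD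
  have hmax' := Cfsg.Agent.H644.isMaximalBrauerPair_of_isDefectGroup hM he hD
  obtain ⟨F, hF, hsat⟩ := Cfsg.Agent.S4677.result 2 M hM B D e hmax'
  let a : BrauerPairIdx G := ⟨D, e⟩
  have hmax : IsMaximalBrauerPair 2 M B a.1 a.2 := hmax'
  obtain ⟨T, hT7, hT, hTF⟩ := exists_seven hDp hsat h16 h4 hZ4 hz hz2 hz1 hcom x.2 hxx hxz
  have h1 := rank_add_le_finset hM hmax T hT (fun s hs t ht h =>
    hTF s hs t ht ((isConjElt_iff (a := a) hM hmax hF (hT s hs).1 (hT t ht).1).2 h))
  rw [hT7] at h1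
  have hzD : z ∈ a.1 := Z_le hz
  have hzcen : ∀ d ∈ a.1, d * z = z * d := (mem_Z.1 hz).2
  -- the rank at `z`
  have h2 : blockRank 2 (bel 2 M a z).2 = 1 := by
    obtain ⟨K, _, _, b, D', f, hb, hD', hf, hker, hrank⟩ := exists_quot hM hmax hzD hzcen
    rw [← hrank]
    have hfz : f ⟨z, hzD⟩ = 1 := (hker _).2 (Subgroup.mem_zpowers z)
    have hab : ∀ u ∈ D', ∀ v ∈ D', u * v = v * u := by
      intro u hu v hv
      obtain ⟨u', hu'⟩ := hf ⟨u, hu⟩
      obtain ⟨v', hv'⟩ := hf ⟨v, hv⟩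
      have h3 : f u' * f v' = f v' * f u' := by
        rcases hcom u' u'.2 v' v'.2 with h | h
        · rw [← map_mul, ← map_mul]
          congr 1
          exact Subtype.ext h
        · have h5 : u' * v' = v' * u' * ⟨z, hzD⟩ := Subtype.ext h
          rw [← map_mul, h5, map_mul, hfz, mul_one, map_mul]
      rw [hu', hv'] at h3
      exact congrArg Subtype.val h3
    have hfin : Finite a.1 := inferInstance
    have hcard : Nat.card D' = 8 := by
      have h3 : f.ker = Subgroup.zpowers (⟨z, hzD⟩ : a.1) := by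
        ext w
        rw [MonoidHom.mem_ker, hker, Subgroup.mem_zpowers_iff, Subgroup.mem_zpowers_iff]
        constructor
        · rintro ⟨k, hk⟩
          exact ⟨k, Subtype.ext hk⟩
        · rintro ⟨k, hk⟩
          exact ⟨k, congrArg Subtype.val hk⟩
      have h5 : orderOf (⟨z, hzD⟩ : a.1) = 2 := by
        rw [Subgroup.orderOf_mk]
        exact orderOf_eq_prime (by rw [pow_two]; exact hz2) hz1
      have h6 : Nat.card (a.1 ⧸ f.ker) = Nat.card D' :=
        Nat.card_congr (QuotientGroup.quotientKerEquivOfSurjective f hf).toEquiv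
      have h7 := Subgroup.card_eq_card_quotient_mul_card_subgroup f.ker
      rw [h6, h3, Nat.card_zpowers, h5] at h7
      have h8 : Nat.card a.1 = 16 := h16
      omega
    refine rank_one_of_abelian_eight hM hb hD' hab hcard (x := (f x : K)) (f x).2 ?_
    intro h
    have h3 : f (x * x) = 1 := by
      rw [map_mul]
      exact Subtype.ext h
    rw [hker] at h3
    obtain ⟨k, hk⟩ := Subgroup.mem_zpowers_iff.1 h3
    have hz2' : z ^ (2 : ℤ) = 1 := by
      rw [show (2 : ℤ) = 1 + 1 by norm_num, zpow_add, zpow_one, hz2]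
    rcases Int.even_or_odd k with ⟨m, rfl⟩ | ⟨m, rfl⟩
    · rw [← two_mul, zpow_mul, hz2', one_zpow] at hk
      exact hxx hk.symm
    · rw [zpow_add, zpow_mul, zpow_one, hz2', one_zpow, one_mul] at hk
      exact hxz hk.symm
  have h3 := card_zero_add_le_bel hM hmax hzD hzcen h2
  have h5 := Cfsg.Agent.H617.OlssonMain.bound_nonabelian hM hB hD hna (by rw [h16]; norm_num)
  rw [hidx] at h5
  have h6 : Nat.card a.1 = 16 := h16
  omega

end Cfsg.Agent.H602.Small
end

-- part: H602/Small/MaxClass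
section
/-!
# 2-blocks with defect groups of maximal class, or nonabelian of order eight

* `rank_of_index_four`: `1 ≤ l(B) ≤ 3` and `k₀(B) = 4` if `|D : D'| = 4`, `8 ≤ |D|`;
* `rank_of_eight`: the same for `D` nonabelian of order 8.
-/

set_option autoImplicit false

open Cfsg

namespace Cfsg.Agent.H602.Small

universe u

variable {G : Type u} [Group G] [Finite G] {M : Ideal AlgInt} {B : Set (IrrCharacter G)}

/-- Defect groups of maximal class. -/
theorem rank_of_index_four (hM : IsPModular 2 M) (hB : IsPBlock M B) {D : Subgroup G}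
    (hD : IsDefectGroup 2 M B D) {n : ℕ} (hn : 3 ≤ n) (hcard : Nat.card D = 2 ^ n)
    (hidx : (commutator D).index = 4) : 1 ≤ blockRank 2 B ∧ blockRank 2 B ≤ 3 ∧
      Nat.card {χ : IrrCharacter G // χ ∈ B ∧ blockHeight 2 B (χ : G → ℂ) = 0} = 4 := by
  rcases Cfsg.Agent.H584.MaxClass.dsq_of_index_commutator n hn hcard hidx with
    ⟨k, ⟨e⟩⟩ | ⟨k, hk, x, y, hx, hy, hxy⟩ | ⟨k, ⟨e⟩⟩
  · have h1 : Nat.card D = 2 ^ (k + 3) := by
      rw [Nat.card_congr e.toEquiv, DihedralGroup.nat_card]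
      ring
    have h2 : n = k + 3 := Nat.pow_right_injective le_rfl (hcard.symm.trans h1)
    subst h2
    obtain ⟨-, h3, h4, h5, -⟩ := S4528.result M hM B hB D hD (k + 3) hn ⟨e⟩
    exact ⟨h3, h4, h5⟩
  · have h2 : n = k + 4 := Nat.pow_right_injective le_rfl (hcard.symm.trans hk)
    subst h2
    obtain ⟨-, h3, h4, -, -, h5, -⟩ := S4529.result M hM B hB D hD (k + 4) (by omega) hk
      ⟨k + 3, by omega, hk, x, y, hx, hy, hxy⟩
    exact ⟨h3, h4, h5⟩
  · have h1 : Nat.card D = 2 ^ (k + 3) := by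
      rw [Nat.card_congr e.toEquiv, Nat.card_eq_fintype_card, QuaternionGroup.card]
      ring
    have h2 : n = k + 3 := Nat.pow_right_injective le_rfl (hcard.symm.trans h1)
    subst h2
    obtain ⟨h3, h4, -, h5, -⟩ := S4530.result M hM B hB D hD (k + 3) hn ⟨e⟩
    exact ⟨h3, h4, h5⟩

omit [Finite G] in
/-- The commutator quotient of a nonabelian group of order eight. -/
theorem index_of_eight {D : Subgroup G} (h8 : Nat.card D = 8)
    (hna : ¬ ∀ x ∈ D, ∀ y ∈ D, x * y = y * x) : (commutator D).index = 4 := by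
  have hp : IsPGroup 2 D := IsPGroup.of_card (n := 3) (by rw [h8]; norm_num)
  have hfin : Finite D := Nat.finite_of_card_ne_zero (by rw [h8]; norm_num)
  have hna' : H617.FusTwo.Z D ≠ D := by
    intro h
    apply hna
    intro x hx y hy
    rw [← h] at hy
    exact (H617.FusTwo.mem_Z.1 hy).2 x hx
  obtain ⟨h1, h2⟩ := H617.FusMain.index_ge_four hp hna'
  have h3 := Subgroup.card_mul_index (commutator D)
  rw [h8] at h3
  have h4 : Nat.card (commutator D) ≠ 1 := by
    intro h
    apply hna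
    have h5 : commutator D = ⊥ := Subgroup.card_eq_one.1 h
    intro x hx y hy
    have h6 : (⟨x, hx⟩ : D) * ⟨y, hy⟩ * (⟨x, hx⟩ : D)⁻¹ * (⟨y, hy⟩ : D)⁻¹ ∈ commutator D :=
      Subgroup.commutator_mem_commutator (Subgroup.mem_top _) (Subgroup.mem_top _)
    rw [h5, Subgroup.mem_bot] at h6
    have h7 : x * y * x⁻¹ * y⁻¹ = 1 := congrArg Subtype.val h6
    calc x * y = x * y * x⁻¹ * y⁻¹ * (y * x) := by group
      _ = y * x := by rw [h7, one_mul]
  have h5 : (commutator D).index ∣ 8 := ⟨_, by rw [mul_comm]; exact h3.symm⟩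
  have h6 : (commutator D).index ≤ 8 := Nat.le_of_dvd (by norm_num) h5
  generalize (commutator D).index = m at *
  generalize Nat.card (commutator D) = k at *
  interval_cases m <;> omega

/-- Nonabelian defect groups of order eight. -/
theorem rank_of_eight (hM : IsPModular 2 M) (hB : IsPBlock M B) {D : Subgroup G}
    (hD : IsDefectGroup 2 M B D) (h8 : Nat.card D = 8)
    (hna : ¬ ∀ x ∈ D, ∀ y ∈ D, x * y = y * x) : 1 ≤ blockRank 2 B ∧ blockRank 2 B ≤ 3 ∧
      Nat.card {χ : IrrCharacter G // χ ∈ B ∧ blockHeight 2 B (χ : G → ℂ) = 0} = 4 :=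
  rank_of_index_four hM hB hD (n := 3) le_rfl (by rw [h8]; norm_num) (index_of_eight h8 hna)

end Cfsg.Agent.H602.Small
end

-- part: H602/Small/PkgF3
section
/-!
# Package F3 of S4542
-/

set_option autoImplicit false

open Cfsg

namespace Cfsg.Agent.H602.Small

universe u

/-- Package F3: defect groups of order 16 with centre of order 4, `D / D'` not elementary abelian. -/
theorem rank_le_three_F3 {G : Type u} [Group G] [Finite G] {M : Ideal AlgInt}
    (hM : IsPModular 2 M) {B : Set (IrrCharacter G)} (hB : IsPBlock M B)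
    {D : Subgroup G} (hD : IsDefectGroup 2 M B D) (h16 : Nat.card D = 16)
    (hZ : Nat.card (Subgroup.center D) = 4) {x : D} (hx : x * x ∉ commutator D) :
    blockRank 2 B ≤ 3 := by
  have hp : IsPGroup 2 D := IsPGroup.of_card (n := 4) (by rw [h16]; norm_num)
  have hna : H617.FusTwo.Z D ≠ D := by
    intro h
    have h1 : Subgroup.center D = ⊤ := by
      rw [eq_top_iff]
      intro y _
      rw [Subgroup.mem_center_iff]
      intro w
      have h2 : (y : G) ∈ H617.FusTwo.Z D := by rw [h]; exact y.2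
      exact Subtype.ext ((H617.FusTwo.mem_Z.1 h2).2 w w.2)
    rw [h1, Subgroup.card_top, h16] at hZ
    norm_num at hZ
  obtain ⟨h1, h2⟩ := H617.FusMain.index_ge_four hp hna
  have h3 := Subgroup.card_mul_index (commutator D)
  rw [h16] at h3
  have h4 : Nat.card (commutator D) ≠ 1 := by
    intro h
    have h5 : commutator D = ⊥ := Subgroup.card_eq_one.1 h
    apply hna
    refine H617.FusMain.Z_eq_of_comm fun a ha b hb => ?_
    have h6 : (⟨a, ha⟩ : D) * ⟨b, hb⟩ * (⟨a, ha⟩ : D)⁻¹ * (⟨b, hb⟩ : D)⁻¹ ∈ commutator D :=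
      Subgroup.commutator_mem_commutator (Subgroup.mem_top _) (Subgroup.mem_top _)
    rw [h5, Subgroup.mem_bot] at h6
    have h7 : a * b * a⁻¹ * b⁻¹ = 1 := congrArg Subtype.val h6
    calc a * b = a * b * a⁻¹ * b⁻¹ * (b * a) := by group
      _ = b * a := by rw [h7, one_mul]
  have h5 : (commutator D).index ∣ 16 := ⟨_, by rw [mul_comm]; exact h3.symm⟩
  have h6 : (commutator D).index = 4 ∨ (commutator D).index = 8 := by
    have h7 : (commutator D).index ≤ 16 := Nat.le_of_dvd (by norm_num) h5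
    generalize (commutator D).index = m at *
    generalize Nat.card (commutator D) = k at *
    interval_cases m <;> omega
  rcases h6 with h6 | h6
  · exact (rank_of_index_four hM hB hD (n := 4) (by norm_num) (by rw [h16]; norm_num) h6).2.1
  · exact rank_le_three_of_sixteen_of_sq hM hB hD h16 h6 hx

theorem pkgF3 {M : Ideal AlgInt} (hM : IsPModular 2 M) : H624.FCases.PkgF3.{u} M := by
  intro G _ _ B D hB hD h16 hZ hx
  obtain ⟨x, hx⟩ := hx
  exact rank_le_three_F3 hM hB hD h16 hZ hx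

end Cfsg.Agent.H602.Small
end
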